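import Mathlib

/-!
# Small coprime actions of an element of prime order
-/

set_option autoImplicit false
set_option linter.all false

open Subgroup

namespace CfsgLib.Char.SmallGraph

universe u

variable {G : Type u} [Group G] [Finite G]

/-- The fixed points of an automorphism of prime order, counted modulo the prime. -/
theorem card_fixed_modEq {α : Type*} [Finite α] {r : ℕ} [hr : Fact r.Prime] (σ : Equiv.Perm α)
    (hσ : σ ^ r = 1) : Nat.card α ≡ Nat.card {a : α // σ a = a} [MOD r] := by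
  classical
  have hP : IsPGroup r (zpowers σ) := by
    intro g
    obtain ⟨g, i, rfl⟩ := g
    exact ⟨1, Subtype.ext (show (σ ^ i) ^ (r ^ 1) = 1 by rw [pow_one, ← zpow_natCast, ← zpow_mul, mul_comm, zpow_mul, zpow_natCast, hσ, one_zpow])⟩
  refine (hP.card_modEq_card_fixedPoints α).trans ?_
  suffices e : Nat.card (MulAction.fixedPoints (zpowers σ) α) = Nat.card {a : α // σ a = a} by
    rw [e]
  refine Nat.card_congr (Equiv.subtypeEquivRight fun a => ?_)
  refine ⟨fun h => h ⟨σ, mem_zpowers σ⟩, fun h => ?_⟩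
  rintro ⟨g, i, rfl⟩
  exact Equiv.Perm.zpow_apply_eq_self_of_apply_eq_self h i

/-- A non-central action of an element of order `r` on a `q`-group of order `q ^ a`. -/
theorem exists_exponent {q r : ℕ} [hq : Fact q.Prime] [hr : Fact r.Prime] (hne : r ≠ q) {x : G}
    (hx : orderOf x = r) (N : Subgroup G) (hnorm : ∀ g ∈ N, x * g * x⁻¹ ∈ N) {a : ℕ}
    (hN : Nat.card N = q ^ a) (hnc : ¬ ∀ g ∈ N, x * g = g * x) :
    ∃ c, c < a ∧ r ∣ q ^ (a - c) - 1 ∧ (c = 0 → ∀ g ∈ N, x * g = g * x → g = 1) := by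
  classical
  set f : N → N := fun g => ⟨x * g * x⁻¹, hnorm g g.2⟩ with hf
  have hfi : Function.Injective f := fun g h e => by
    have := congrArg Subtype.val e
    exact Subtype.ext (mul_left_cancel (mul_right_cancel this))
  let σ : Equiv.Perm N := Equiv.ofBijective f (Finite.injective_iff_bijective.1 hfi)
  have hpow : ∀ (k : ℕ) (g : N), ((σ ^ k) g : G) = x ^ k * g * (x ^ k)⁻¹ := by
    intro k
    induction k with
    | zero => simp
    | succ k ih =>
      intro g
      rw [pow_succ', Equiv.Perm.mul_apply]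
      show x * ((σ ^ k) g : G) * x⁻¹ = _
      rw [ih, pow_succ', mul_inv_rev]
      group
  have hσ : σ ^ r = 1 := Equiv.ext fun g => Subtype.ext (by
    rw [hpow, ← hx, pow_orderOf_eq_one]; simp)
  have hmod := card_fixed_modEq (r := r) σ hσ
  set C : Subgroup G := N ⊓ centralizer ({x} : Set G) with hC
  have hfix : Nat.card {g : N // σ g = g} = Nat.card C := by
    refine Nat.card_congr
      { toFun := fun g => ⟨(g.1 : G), mem_inf.2 ⟨g.1.2, mem_centralizer_singleton_iff.2 ?_⟩⟩
        invFun := fun g => ⟨⟨g.1, (mem_inf.1 g.2).1⟩, Subtype.ext ?_⟩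
        left_inv := fun g => rfl
        right_inv := fun g => rfl }
    · have h : x * (g.1 : G) * x⁻¹ = g.1 := congrArg Subtype.val g.2
      exact (mul_inv_eq_iff_eq_mul.1 h).symm
    · show x * g.1 * x⁻¹ = g.1
      rw [← mem_centralizer_singleton_iff.1 (mem_inf.1 g.2).2]; group
  rw [hfix, hN] at hmod
  obtain ⟨c, hca, hc⟩ := (Nat.dvd_prime_pow hq.out).1 (hN ▸ card_dvd_of_le (inf_le_left : C ≤ N))
  have hlt : c < a := by
    refine lt_of_le_of_ne hca fun e => hnc fun g hg => ?_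
    have hCN : C = N := eq_of_le_of_card_ge inf_le_left (by rw [hN, hc, e])
    rw [← hCN, hC, mem_inf] at hg
    exact (mem_centralizer_singleton_iff.1 hg.2).symm
  refine ⟨c, hlt, ?_, fun c0 g hg hxg => ?_⟩
  · rw [hc] at hmod
    have h1 : r ∣ q ^ a - q ^ c :=
      (Nat.modEq_iff_dvd' (Nat.pow_le_pow_right hq.out.pos hlt.le)).1 hmod.symm
    have e : q ^ a - q ^ c = q ^ c * (q ^ (a - c) - 1) := by
      rw [Nat.mul_sub, mul_one, ← pow_add, Nat.add_sub_cancel' hlt.le]
    rw [e] at h1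
    refine (Nat.Coprime.dvd_of_dvd_mul_left ?_ h1)
    exact Nat.Coprime.pow_right c ((Nat.coprime_primes hr.out hq.out).2 hne)
  · rw [c0, pow_zero, card_eq_one] at hc
    have hgC : g ∈ N ⊓ centralizer ({x} : Set G) := mem_inf.2 ⟨hg, mem_centralizer_singleton_iff.2 hxg.symm⟩
    rwa [hc, mem_bot] at hgC

/-- If only the full order allows a non-central action then the group is abelian. -/
theorem comm_of_exception {q r : ℕ} [hq : Fact q.Prime] [hr : Fact r.Prime] (hne : r ≠ q) {x : G}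
    (hx : orderOf x = r) (N : Subgroup G) (hnorm : ∀ g ∈ N, x * g * x⁻¹ ∈ N) {a : ℕ}
    (hN : Nat.card N = q ^ a) (hlow : ∀ i, 1 ≤ i → i < a → ¬ r ∣ q ^ i - 1)
    (hnc : ¬ ∀ g ∈ N, x * g = g * x) : ∀ g ∈ N, ∀ h ∈ N, g * h = h * g := by
  classical
  set Z : Subgroup G := (center N).map N.subtype with hZ
  have hZN : Z ≤ N := map_subtype_le _
  have hmem : ∀ g, g ∈ Z ↔ g ∈ N ∧ ∀ h ∈ N, h * g = g * h := by
    intro g
    constructor
    · rintro ⟨z, hz, rfl⟩
      exact ⟨z.2, fun h hh => congrArg Subtype.val (mem_center_iff.1 hz ⟨h, hh⟩)⟩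
    · rintro ⟨hg, hh⟩
      exact ⟨⟨g, hg⟩, mem_center_iff.2 fun h => Subtype.ext (hh h h.2), rfl⟩
  have hsurj : ∀ h ∈ N, ∃ h' ∈ N, x * h' * x⁻¹ = h := by
    intro h hh
    have hfi : Function.Injective (fun g : N => (⟨x * g * x⁻¹, hnorm g g.2⟩ : N)) := fun g h e =>
      Subtype.ext (mul_left_cancel (mul_right_cancel (congrArg Subtype.val e)))
    obtain ⟨h', e⟩ := (Finite.injective_iff_surjective.1 hfi) ⟨h, hh⟩
    exact ⟨h', h'.2, congrArg Subtype.val e⟩
  have hZnorm : ∀ g ∈ Z, x * g * x⁻¹ ∈ Z := by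
    intro g hg
    obtain ⟨hgN, hgc⟩ := (hmem g).1 hg
    refine (hmem _).2 ⟨hnorm g hgN, fun h hh => ?_⟩
    obtain ⟨h', hh', rfl⟩ := hsurj h hh
    calc x * h' * x⁻¹ * (x * g * x⁻¹) = x * (h' * g) * x⁻¹ := by group
      _ = x * (g * h') * x⁻¹ := by rw [hgc h' hh']
      _ = x * g * x⁻¹ * (x * h' * x⁻¹) := by group
  obtain ⟨c, hca, hdvd, hfpf⟩ := exists_exponent hne hx N hnorm hN hnc
  have hc0 : c = 0 := by
    by_contra h
    exact hlow (a - c) (by omega) (by omega) hdvd
  obtain ⟨b, hba, hb⟩ := (Nat.dvd_prime_pow hq.out).1 (hN ▸ card_dvd_of_le hZN)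
  haveI : Nontrivial N := Finite.one_lt_card_iff_nontrivial.1 (by
    rw [hN]; exact Nat.one_lt_pow (by omega) hq.out.one_lt)
  have hZnt : Z ≠ ⊥ := by
    rw [hZ, Ne, map_eq_bot_iff_of_injective _ N.subtype_injective]
    haveI : Nontrivial (center N) := (IsPGroup.of_card (p := q) hN).center_nontrivial
    exact nontrivial_iff_ne_bot _ |>.1 inferInstance
  have hnz : ¬ ∀ g ∈ Z, x * g = g * x := fun h => hZnt
    ((eq_bot_iff_forall _).2 fun g hg => hfpf hc0 g (hZN hg) (h g hg))
  obtain ⟨c', hc', hdvd', -⟩ := exists_exponent hne hx Z hZnorm hb hnz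
  have hab : b = a := by
    by_contra h
    exact hlow (b - c') (by omega) (by omega) hdvd'
  have hZeq : Z = N := eq_of_le_of_card_ge hZN (by rw [hN, hb, hab])
  intro g hg h hh
  exact ((hmem g).1 (hZeq.symm ▸ hg)).2 h hh |>.symm

/-- The arithmetic test for the possible non-central actions. -/
def okExp (n r e : ℕ) : Bool :=
  (List.range (n + 1)).all fun q =>
    decide (q < 2) || (n % q != 0) || ((List.range q).any fun k => decide (2 ≤ k) && (q % k == 0)) ||
      ((List.range 14).all fun i => (i == 0) || (n % (q ^ i) != 0) || ((q ^ i - 1) % r != 0) ||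
        (q ^ i == e))

theorem eq_of_okExp {n r e : ℕ} (h : okExp n r e = true) (hn : 0 < n) (hn' : n < 2 ^ 13) {q i : ℕ}
    (hq : q.Prime) (hi : 1 ≤ i) (hd : q ^ i ∣ n) (hr : r ∣ q ^ i - 1) : q ^ i = e := by
  have hqn : q ∣ n := (dvd_pow_self q (by omega)).trans hd
  have hi13 : i < 14 := by
    by_contra hh
    have h1 : 2 ^ 13 ≤ q ^ i :=
      (Nat.pow_le_pow_left hq.two_le 13).trans (Nat.pow_le_pow_right hq.pos (by omega))
    have h2 := Nat.le_of_dvd hn hd
    omega
  simp only [okExp, List.all_eq_true, List.mem_range, Bool.or_eq_true, decide_eq_true_eq,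
    bne_iff_ne, beq_iff_eq, List.any_eq_true, Bool.and_eq_true] at h
  rcases h q (Nat.lt_succ_of_le (Nat.le_of_dvd hn hqn)) with ((h1 | h1) | h1) | h1
  · exact absurd hq.two_le (by omega)
  · exact absurd (Nat.mod_eq_zero_of_dvd hqn) h1
  · obtain ⟨k, hk, hk2, hk0⟩ := h1
    rcases hq.eq_one_or_self_of_dvd k (Nat.dvd_of_mod_eq_zero hk0) with e | e <;> omega
  · rcases h1 i hi13 with ((h2 | h2) | h2) | h2
    · omega
    · exact absurd (Nat.mod_eq_zero_of_dvd hd) h2
    · exact absurd (Nat.mod_eq_zero_of_dvd hr) h2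
    · exact h2

/-- An element of order `r` fixes a Sylow subgroup of a normal subgroup of order prime to `r`. -/
theorem exists_invariant_sylow {r q : ℕ} [hr : Fact r.Prime] [hq : Fact q.Prime] {x : G}
    (hx : orderOf x = r) (T : Subgroup G) [T.Normal] (hrT : ¬ r ∣ Nat.card T) :
    ∃ P : Subgroup G, P ≤ T ∧ (∀ g ∈ P, x * g * x⁻¹ ∈ P) ∧
      Nat.card P = q ^ (Nat.card T).factorization q := by
  classical
  let φ : MulAut T := MulAut.conjNormal x
  have hφ : φ ^ r = 1 := by rw [← map_pow, ← hx, pow_orderOf_eq_one, map_one]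
  let σ : Equiv.Perm (Sylow q T) := MulAction.toPermHom (MulAut T) (Sylow q T) φ
  have hσ : σ ^ r = 1 := by rw [← map_pow, hφ, map_one]
  have hmod := card_fixed_modEq (r := r) σ hσ
  have hne : Nonempty {P : Sylow q T // σ P = P} := by
    refine (Nat.card_pos_iff.1 (Nat.pos_of_ne_zero fun h0 => ?_)).1
    rw [h0, Nat.modEq_zero_iff_dvd] at hmod
    obtain ⟨P⟩ : Nonempty (Sylow q T) := inferInstance
    exact hrT (hmod.trans (P.card_dvd_index.trans ⟨_, ((P : Subgroup T).index_mul_card).symm⟩))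
  obtain ⟨⟨P, hP⟩⟩ := hne
  refine ⟨(P : Subgroup T).map T.subtype, map_subtype_le _, ?_, ?_⟩
  · rintro _ ⟨g, hg, rfl⟩
    refine ⟨φ g, ?_, by simp [φ]⟩
    have hP' : φ • P = P := hP
    rw [← hP']
    exact Subgroup.smul_mem_pointwise_smul g φ _ hg
  · rw [card_map_of_injective T.subtype_injective, P.card_eq_multiplicity]

/-- A normal subgroup admitting no non-central action is centralized. -/
theorem centralizes_of_okExp {r : ℕ} [hr : Fact r.Prime] {x : G} (hx : orderOf x = r)
    (T : Subgroup G) [T.Normal] (hrT : ¬ r ∣ Nat.card T) (ht : Nat.card T < 2 ^ 13)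
    (hok : okExp (Nat.card T) r 1 = true) : ∀ g ∈ T, x * g = g * x := by
  classical
  set F : Subgroup G := T ⊓ centralizer ({x} : Set G) with hF
  have hFT : F ≤ T := inf_le_left
  suffices h : F = T by
    intro g hg
    rw [← h, hF, mem_inf] at hg
    exact (mem_centralizer_singleton_iff.1 hg.2).symm
  refine eq_of_le_of_card_ge hFT (Nat.le_of_dvd Nat.card_pos ?_)
  refine (Nat.factorization_prime_le_iff_dvd Nat.card_pos.ne' Nat.card_pos.ne').1 fun q hq => ?_
  rcases Nat.eq_zero_or_pos ((Nat.card T).factorization q) with h0 | h0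
  · rw [h0]; exact Nat.zero_le _
  haveI : Fact q.Prime := ⟨hq⟩
  obtain ⟨P, hPT, hinv, hPc⟩ := exists_invariant_sylow (q := q) hx T hrT
  have hne : r ≠ q := by
    rintro rfl
    exact hrT (Nat.dvd_of_factorization_pos h0.ne')
  refine (hq.pow_dvd_iff_le_factorization Nat.card_pos.ne').1 (hPc ▸ card_dvd_of_le (le_inf hPT ?_))
  intro g hg
  rw [mem_centralizer_singleton_iff]
  by_contra hne'
  obtain ⟨c, hc, hd, -⟩ := exists_exponent hne hx P hinv hPc (fun h => hne' (h g hg).symm)
  have h1 := eq_of_okExp hok Nat.card_pos ht hq (i := (Nat.card T).factorization q - c) (by omega)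
    ((pow_dvd_pow q (Nat.sub_le _ _)).trans (Nat.ordProj_dvd _ q)) hd
  have := Nat.one_lt_pow (show (Nat.card T).factorization q - c ≠ 0 by omega) hq.one_lt
  omega

end CfsgLib.Char.SmallGraph
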