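import Cfsg.Prelude.Def_DegreeGraph
import Cfsg.Agent.S0496
import Cfsg.Agent.Lib.Perm.Small.OrdersMid
import Cfsg.Agent.Lib.Perm.Small.OrdersRange
import Cfsg.Agent.Lib.Char.DegreePrimesTwo
import Cfsg.Agent.Lib.Char.Degree
import Cfsg.Agent.Lib.Char.SmallGraph.Coprime

/-!
# The small orders, and elementary facts on degree primes
-/

set_option autoImplicit false
set_option linter.all false

open Cfsg

namespace CfsgLib.Char.SmallGraph

universe u v

/-- The orders of the non-abelian simple groups below 6000. -/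
def simpleOrders : List ℕ := [60, 168, 360, 504, 660, 1092, 2448, 2520, 3420, 4080, 5616]

theorem simpleOrders_props : ∀ t ∈ simpleOrders, 60 ≤ t ∧ ∀ n ∈ simpleOrders, ¬ t * t ∣ n := by
  decide +kernel

theorem not_mul_dvd : ∀ s ∈ simpleOrders, ∀ t ∈ simpleOrders, ∀ n ∈ simpleOrders, ¬ s * t ∣ n := by
  decide +kernel

theorem simple_card_mem {S : Type u} [Group S] [Finite S] [IsSimpleGroup S]
    (hS : ¬ IsMulCommutative S) (hlt : Nat.card S < 6000) : Nat.card S ∈ simpleOrders := by
  simp only [simpleOrders, List.mem_cons, List.not_mem_nil, or_false]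
  rcases Nat.lt_or_ge 1092 (Nat.card S) with h1 | h1
  · rcases Nat.lt_or_ge 3640 (Nat.card S) with h2 | h2
    · rcases CfsgLib.Perm.OrdersRange.card_mem_range hS h2 (by omega) with h | h | h | h <;> omega
    · rcases CfsgLib.Perm.OrdersMid.card_mem_mid hS h1 h2 with h | h | h <;> omega
  · rcases Cfsg.Agent.S0496.result hS h1 with h | h | h | h | h | h <;> omega

theorem exists_order_dvd : ∀ (n : ℕ) (G : Type u) [Group G] [Finite G], Nat.card G = n → n < 6000 →
    ¬ Group.IsSolvable G → ∃ t ∈ simpleOrders, t ∣ n := by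
  intro n
  induction n using Nat.strong_induction_on with
  | _ n ih =>
    intro G _ _ hn hlt hns
    subst hn
    by_cases hprop : ∃ N : Subgroup G, N.Normal ∧ N ≠ ⊥ ∧ N ≠ ⊤
    · obtain ⟨N, hN, hb, ht⟩ := hprop
      have hnt : 1 < Nat.card N := Subgroup.one_lt_card_iff_ne_bot N |>.mpr hb
      have hidx : 1 < N.index := by
        have := Subgroup.index_ne_zero_of_finite (H := N)
        have : N.index ≠ 1 := fun h => ht (Subgroup.index_eq_one.mp h)
        omega
      have hc := N.card_mul_index
      have hq : Nat.card (G ⧸ N) = N.index := rfl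
      have h1 : Nat.card N < Nat.card G := by nlinarith
      have h2 : Nat.card (G ⧸ N) < Nat.card G := by rw [hq]; nlinarith
      by_cases hNs : Group.IsSolvable N
      · by_cases hQs : Group.IsSolvable (G ⧸ N)
        · exact absurd (Group.isSolvable_of_ker_le_range N.subtype (QuotientGroup.mk' N)
            (by rw [QuotientGroup.ker_mk', Subgroup.range_subtype])) hns
        · obtain ⟨t, ht, hd⟩ := ih _ h2 (G ⧸ N) rfl (by omega) hQs
          exact ⟨t, ht, hd.trans (hq ▸ N.index_dvd_card)⟩
      · obtain ⟨t, ht, hd⟩ := ih _ h1 N rfl (by omega) hNs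
        exact ⟨t, ht, hd.trans (Subgroup.card_subgroup_dvd_card N)⟩
    · push Not at hprop
      rcases subsingleton_or_nontrivial G with h | h
      · exact absurd (inferInstance : Group.IsSolvable G) hns
      have : IsSimpleGroup G := ⟨fun H hH => (em (H = ⊥)).imp_right fun h' => hprop H hH h'⟩
      refine ⟨_, simple_card_mem (fun hc => hns ?_) hlt, dvd_rfl⟩
      exact IsSimpleGroup.comm_iff_isSolvable.mp fun a b => hc.is_comm.comm a b

theorem simple_not_solvable {S : Type u} [Group S] [IsSimpleGroup S] (hS : ¬ IsMulCommutative S) :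
    ¬ Group.IsSolvable S := fun h => hS ⟨⟨IsSimpleGroup.comm_iff_isSolvable.mpr h⟩⟩

theorem charDegrees_of_surjective {G : Type u} {H : Type v} [Group G] [Group H] (f : G →* H)
    (hf : Function.Surjective f) : charDegrees H ⊆ charDegrees G := by
  rintro d ⟨θ, rfl⟩
  refine ⟨⟨fun x => (θ : H → ℂ) (f x), CfsgLib.Char.isIrrCharacter_comp_surjective θ.2 f hf⟩, ?_⟩
  simp [charDegree]

theorem charDegrees_equiv {G : Type u} {H : Type v} [Group G] [Group H] (e : G ≃* H) :
    charDegrees G = charDegrees H :=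
  Set.Subset.antisymm (charDegrees_of_surjective e.symm.toMonoidHom e.symm.surjective)
    (charDegrees_of_surjective e.toMonoidHom e.surjective)

theorem graph_equiv {G : Type u} {H : Type v} [Group G] [Group H] (e : G ≃* H) :
    degreePrimes G = degreePrimes H ∧ degreeGraph G = degreeGraph H := by
  refine ⟨?_, ?_⟩
  · simp only [degreePrimes, charDegrees_equiv e]
  · ext p q
    simp only [degreeGraph, charDegrees_equiv e]

theorem adj_of_surjective {G : Type u} {H : Type v} [Group G] [Group H] (f : G →* H)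
    (hf : Function.Surjective f) {p q : ℕ} (h : (degreeGraph H).Adj p q) : (degreeGraph G).Adj p q :=
  ⟨h.1, h.2.1, h.2.2.1, h.2.2.2.imp fun d hd => ⟨charDegrees_of_surjective f hf hd.1, hd.2⟩⟩

theorem adj_of_normal {G : Type u} [Group G] [Finite G] (N : Subgroup G) [N.Normal] {p q : ℕ}
    (h : (degreeGraph N).Adj p q) : (degreeGraph G).Adj p q := by
  classical
  have := Fintype.ofFinite G
  have := Fintype.ofFinite N
  obtain ⟨h1, h2, h3, d, ⟨θ, rfl⟩, hd⟩ := h
  obtain ⟨χ, hχ⟩ := Block.ItoMichler.exists_irr_over N θ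
  exact ⟨h1, h2, h3, _, ⟨χ, rfl⟩, hd.trans (Block.ItoMichler.dvd_of_constituent N χ θ hχ).1⟩

theorem mem_degreePrimes_card {G : Type u} [Group G] [Finite G] {p : ℕ} (h : p ∈ degreePrimes G) :
    p ∣ Nat.card G := by
  classical
  have := Fintype.ofFinite G
  obtain ⟨hp, d, ⟨χ, rfl⟩, hd⟩ := h
  exact hd.trans (CfsgLib.Char.degree_dvd_card χ (Block.ItoMichler.one_eq_cast χ))

/-- A prime not dividing the index of an abelian normal subgroup divides no degree. -/
theorem not_mem_of_normal_abelian {G : Type u} [Group G] [Finite G] (A : Subgroup G) [A.Normal]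
    (hA : ∀ a ∈ A, ∀ b ∈ A, a * b = b * a) {p : ℕ} (hp : ¬ p ∣ A.index) : p ∉ degreePrimes G := by
  rintro ⟨-, d, ⟨χ, rfl⟩, hd⟩
  exact hp (hd.trans (CfsgLib.Char.degree_dvd_index_abelian G A hA _ χ.2 _
    (Block.ItoMichler.one_eq_cast χ)))

/-- A normal Sylow subgroup of prime order removes its prime from the degree primes. -/
theorem not_mem_of_normal_prime {G : Type u} [Group G] [Finite G] {r : ℕ} (hr : r.Prime)
    (A : Subgroup G) [A.Normal] (hA : Nat.card A = r) (hr2 : ¬ r * r ∣ Nat.card G) :
    r ∉ degreePrimes G := by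
  haveI := Fact.mk hr
  haveI : IsCyclic A := isCyclic_of_prime_card hA
  refine not_mem_of_normal_abelian A (fun a ha b hb => ?_) fun h => hr2 ?_
  · haveI : IsMulCommutative A := inferInstance
    exact congrArg Subtype.val (IsMulCommutative.is_comm.comm (⟨a, ha⟩ : A) ⟨b, hb⟩)
  · rw [← A.card_mul_index, hA]
    exact mul_dvd_mul_left r h

/-- Two primes do not cover the degree primes of a non-solvable group. -/
theorem mem_of_three_primes {S : Type u} [Group S] [Finite S] (hS : ¬ Group.IsSolvable S)
    {r a b : ℕ} (h : ∀ q : ℕ, q.Prime → q ∣ Nat.card S → q = r ∨ q = a ∨ q = b) :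
    r ∈ degreePrimes S := by
  by_contra hr
  refine hS (CfsgLib.Char.DegreePrimesTwo.isSolvable_of_subset_pair _ S rfl a b fun q hq => ?_)
  rcases h q hq.1 (mem_degreePrimes_card hq) with rfl | rfl | rfl
  · exact absurd hq hr
  · exact Or.inl rfl
  · exact Or.inr rfl

end CfsgLib.Char.SmallGraph
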