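import Cfsg.Agent.S0494
import Cfsg.Agent.S0495
import Cfsg.Agent.S0497
import Cfsg.Agent.S0498
import Cfsg.Agent.S1011
import Cfsg.Agent.S1020
import Cfsg.Agent.S0984
import Cfsg.Agent.S1021
import Cfsg.Agent.S0981
import Cfsg.Agent.S4774
import Cfsg.Agent.S4812
import Cfsg.Agent.Lib.Classical.ProjLine
import Cfsg.Agent.Lib.Char.LThreeThree.SimpleChars
import Cfsg.Agent.Lib.Char.LThreeThree.Uniq
import Cfsg.Agent.Lib.Char.SmallGraph.Orders

/-!
# The simple groups of the small orders: uniqueness and degree graphs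
-/

set_option autoImplicit false
set_option linter.all false

open Cfsg CfsgLib.Perm.PrimeBlock CfsgLib.Block
open CfsgLib.Char.MEleven.Order

namespace CfsgLib.Char.SmallGraph

universe u v

theorem not_comm_of_mem {S : Type u} [Group S] [Finite S] [IsSimpleGroup S]
    (h : Nat.card S ∈ simpleOrders) : ¬ IsMulCommutative S := fun hc => by
  haveI := hc
  letI : CommGroup S :=
    { (inferInstance : Group S) with mul_comm := fun a b => IsMulCommutative.is_comm.comm a b }
  have hp : (Nat.card S).Prime := IsSimpleGroup.prime_card (α := S)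
  simp only [simpleOrders, List.mem_cons, List.not_mem_nil, or_false] at h
  rcases h with h | h | h | h | h | h | h | h | h | h | h <;> rw [h] at hp <;> norm_num at hp

theorem iso_psl33 {S : Type u} [Group S] [Finite S] [IsSimpleGroup S] (h : Nat.card S = 5616) :
    Nonempty (S ≃* Matrix.ProjectiveSpecialLinearGroup (Fin 3) (ZMod 3)) := by
  obtain ⟨t, ht, ⟨e⟩⟩ := (LThreeThree.SimpleOrder.shyp_of_card h).exists_gl
  refine LThreeThree.iso_psl t ht e h fun H hH => ?_
  haveI := Subgroup.normal_of_index_eq_two hH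
  have hm := H.card_mul_index
  rw [hH, h] at hm
  rcases Subgroup.Normal.eq_bot_or_eq_top (inferInstance : H.Normal) with e | e
  · rw [e, Subgroup.card_bot] at hm; omega
  · rw [e, Subgroup.card_top, h] at hm; omega

theorem zmod_card (p : ℕ) [Fact p.Prime] : Fintype.card (ZMod p) = p := ZMod.card p

theorem galois_card (p n : ℕ) [Fact p.Prime] (hn : n ≠ 0) [Fintype (GaloisField p n)] :
    Fintype.card (GaloisField p n) = p ^ n := by
  rw [← Nat.card_eq_fintype_card, GaloisField.card p n hn]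

/-- A simple group of one of the small orders is determined by its order. -/
theorem iso_of_simple {S : Type u} {T : Type v} [Group S] [Finite S] [IsSimpleGroup S] [Group T]
    [Finite T] [IsSimpleGroup T] (hS : Nat.card S ∈ simpleOrders) (hT : Nat.card T = Nat.card S) :
    Nonempty (S ≃* T) := by
  haveI : Fact (Nat.Prime 2) := ⟨Nat.prime_two⟩
  haveI : Fact (Nat.Prime 7) := ⟨by norm_num⟩
  haveI : Fact (Nat.Prime 11) := ⟨by norm_num⟩
  haveI : Fact (Nat.Prime 13) := ⟨by norm_num⟩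
  haveI : Fact (Nat.Prime 17) := ⟨by norm_num⟩
  haveI : Fact (Nat.Prime 19) := ⟨by norm_num⟩
  simp only [simpleOrders, List.mem_cons, List.not_mem_nil, or_false] at hS
  rcases hS with h | h | h | h | h | h | h | h | h | h | h <;> rw [h] at hT
  · obtain ⟨a⟩ := Cfsg.Agent.S0494.result h
    obtain ⟨b⟩ := Cfsg.Agent.S0494.result hT
    exact ⟨a.trans b.symm⟩
  · obtain ⟨a⟩ := Cfsg.Agent.S0495.result h (zmod_card 7)
    obtain ⟨b⟩ := Cfsg.Agent.S0495.result hT (zmod_card 7)
    exact ⟨a.trans b.symm⟩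
  · obtain ⟨a⟩ := Cfsg.Agent.S0497.result h
    obtain ⟨b⟩ := Cfsg.Agent.S0497.result hT
    exact ⟨a.trans b.symm⟩
  · letI := Fintype.ofFinite (GaloisField 2 3)
    obtain ⟨a⟩ := Cfsg.Agent.S1011.result h (galois_card 2 3 (by norm_num))
    obtain ⟨b⟩ := Cfsg.Agent.S1011.result hT (galois_card 2 3 (by norm_num))
    exact ⟨a.trans b.symm⟩
  · obtain ⟨a⟩ := Cfsg.Agent.S0498.result 11 (Or.inl rfl) (by rw [h]; norm_num) (zmod_card 11) (G := S)
    obtain ⟨b⟩ := Cfsg.Agent.S0498.result 11 (Or.inl rfl) (by rw [hT]; norm_num) (zmod_card 11) (G := T)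
    exact ⟨a.trans b.symm⟩
  · obtain ⟨a⟩ := Cfsg.Agent.S0498.result 13 (Or.inr rfl) (by rw [h]; norm_num) (zmod_card 13) (G := S)
    obtain ⟨b⟩ := Cfsg.Agent.S0498.result 13 (Or.inr rfl) (by rw [hT]; norm_num) (zmod_card 13) (G := T)
    exact ⟨a.trans b.symm⟩
  · obtain ⟨a⟩ := Cfsg.Agent.S1020.result h (zmod_card 17)
    obtain ⟨b⟩ := Cfsg.Agent.S1020.result hT (zmod_card 17)
    exact ⟨a.trans b.symm⟩
  · obtain ⟨a⟩ := Cfsg.Agent.S0984.result h
    obtain ⟨b⟩ := Cfsg.Agent.S0984.result hT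
    exact ⟨a.trans b.symm⟩
  · obtain ⟨a⟩ := Cfsg.Agent.S1021.result h (zmod_card 19)
    obtain ⟨b⟩ := Cfsg.Agent.S1021.result hT (zmod_card 19)
    exact ⟨a.trans b.symm⟩
  · letI := Fintype.ofFinite (GaloisField 2 4)
    obtain ⟨a⟩ := Cfsg.Agent.S0981.result h (galois_card 2 4 (by norm_num))
    obtain ⟨b⟩ := Cfsg.Agent.S0981.result hT (galois_card 2 4 (by norm_num))
    exact ⟨a.trans b.symm⟩
  · obtain ⟨a⟩ := iso_psl33 h
    obtain ⟨b⟩ := iso_psl33 hT
    exact ⟨a.trans b.symm⟩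

variable {S : Type u} [Group S] [Finite S] [IsSimpleGroup S]

theorem facts_168 (h : Nat.card S = 168) : (degreeGraph S).Adj 2 3 := by
  haveI : Fact (Nat.Prime 7) := ⟨by norm_num⟩
  refine ((Cfsg.Agent.S4774.result (ZMod 7) 7 (by norm_num) 7 (zmod_card 7) (by norm_num)
    (Or.inl (Cfsg.Agent.S0495.result h (zmod_card 7)))).2 2 3).2 ?_
  norm_num

theorem facts_504 (h : Nat.card S = 504) : ¬ (degreeGraph S).Adj 2 3 := by
  haveI : Fact (Nat.Prime 2) := ⟨Nat.prime_two⟩
  letI := Fintype.ofFinite (GaloisField 2 3)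
  intro hadj
  have := ((Cfsg.Agent.S4812.result (GaloisField 2 3) 8
    ((galois_card 2 3 (by norm_num)).trans (by norm_num)) (by norm_num)
    (Or.inl (Cfsg.Agent.S1011.result h ((galois_card 2 3 (by norm_num)).trans (by norm_num))))).2 2 3).1 hadj
  norm_num at this

theorem facts_360 (h : Nat.card S = 360) :
    (degreeGraph S).Adj 2 5 ∧ ¬ (degreeGraph S).Adj 2 3 := by
  haveI : Fact (Nat.Prime 3) := ⟨Nat.prime_three⟩
  letI := Fintype.ofFinite (GaloisField 3 2)
  have h9 : Fintype.card (GaloisField 3 2) = 9 := (galois_card 3 2 (by norm_num)).trans (by norm_num)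
  haveI : IsSimpleGroup (Matrix.ProjectiveSpecialLinearGroup (Fin 2) (GaloisField 3 2)) :=
    Matrix.ProjectiveSpecialLinearGroup.rank_two_simple (by rw [Nat.card_eq_fintype_card, h9]; norm_num)
  have hc : Nat.card (Matrix.ProjectiveSpecialLinearGroup (Fin 2) (GaloisField 3 2)) = 360 := by
    have h2 := CfsgLib.Classical.card_psl2 (F := GaloisField 3 2)
    rw [h9] at h2
    norm_num at h2
    omega
  obtain ⟨a⟩ := Cfsg.Agent.S0497.result h
  obtain ⟨b⟩ := Cfsg.Agent.S0497.result hc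
  have hg := (Cfsg.Agent.S4774.result (GaloisField 3 2) 3 (by norm_num) 9 h9 (by norm_num)
    (Or.inl ⟨a.trans b.symm⟩)).2
  refine ⟨(hg 2 5).2 (by norm_num), fun hadj => ?_⟩
  have := (hg 2 3).1 hadj
  norm_num at this

theorem vertex_660 (h : Nat.card S = 660) : 11 ∈ degreePrimes S := by
  haveI : Fact (Nat.Prime 11) := ⟨by norm_num⟩
  rw [(Cfsg.Agent.S4774.result (ZMod 11) 11 (by norm_num) 11 (zmod_card 11) (by norm_num)
    (Or.inl (Cfsg.Agent.S0498.result 11 (Or.inl rfl) (by rw [h]; norm_num) (zmod_card 11) (G := S)))).1]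
  norm_num

theorem vertex_1092 (h : Nat.card S = 1092) : 13 ∈ degreePrimes S := by
  haveI : Fact (Nat.Prime 13) := ⟨by norm_num⟩
  rw [(Cfsg.Agent.S4774.result (ZMod 13) 13 (by norm_num) 13 (zmod_card 13) (by norm_num)
    (Or.inl (Cfsg.Agent.S0498.result 13 (Or.inr rfl) (by rw [h]; norm_num) (zmod_card 13) (G := S)))).1]
  norm_num

theorem vertex_3420 (h : Nat.card S = 3420) : 19 ∈ degreePrimes S := by
  haveI : Fact (Nat.Prime 19) := ⟨by norm_num⟩
  rw [(Cfsg.Agent.S4774.result (ZMod 19) 19 (by norm_num) 19 (zmod_card 19) (by norm_num)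
    (Or.inl (Cfsg.Agent.S1021.result h (zmod_card 19)))).1]
  norm_num

theorem vertex_4080 (h : Nat.card S = 4080) : 17 ∈ degreePrimes S := by
  haveI : Fact (Nat.Prime 2) := ⟨Nat.prime_two⟩
  letI := Fintype.ofFinite (GaloisField 2 4)
  have h16 : Fintype.card (GaloisField 2 4) = 16 := (galois_card 2 4 (by norm_num)).trans (by norm_num)
  rw [(Cfsg.Agent.S4812.result (GaloisField 2 4) 16 h16 (by norm_num)
    (Or.inl (Cfsg.Agent.S0981.result h h16))).1]
  norm_num

/-- A prime of the principal block test is a degree prime unless the block exhausts the group. -/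
theorem mem_degreePrimes_of_lists [Fintype S] (g p m B t n₀ e : ℕ) [Fact p.Prime]
    (hcard : Nat.card S = g) (hodd : p ≠ 2) (hg : g = m * p) (hm : ¬ p ∣ m)
    (hB : g ≤ B * B) (h2 : 2 ∣ g) (ht : ∃ a, t = 2 ^ a) (htg : t ∣ g)
    (hskip : refutedTwo g m p B t [(n₀, e)] = true) (hne : n₀ * e = m) (he2 : 2 ≤ e) (hep : e ∣ p - 1)
    (hall : (degLists g m p e B).all (fun l => decide
      (1 + (l.map fun x => x * x).sum + (((p - 1) / e : ℕ) : ℤ) * ((1 + l.sum) * (1 + l.sum)) ≠ (g : ℤ)))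
        = true) :
    p ∈ degreePrimes S := by
  classical
  haveI := Fintype.ofFinite (IrrCharacter S)
  have hG : ¬ IsMulCommutative S := fun hc => by
    haveI := hc
    letI : CommGroup S :=
      { (inferInstance : Group S) with mul_comm := fun a b => IsMulCommutative.is_comm.comm a b }
    have hp : (Nat.card S).Prime := IsSimpleGroup.prime_card (α := S)
    rw [hcard, hg, Nat.prime_mul_iff] at hp
    rcases hp with ⟨-, h1⟩ | ⟨-, h1⟩
    · exact (Fact.out : p.Prime).one_lt.ne' h1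
    · rw [h1] at hne
      nlinarith [Nat.pos_of_mul_pos_right (show 0 < n₀ * e by omega)]
  obtain ⟨P, n, e', c, hmem, hP, hn, -, hC, hN, ⟨Sh⟩⟩ :=
    data_of_refutedTwo g p m B t [(n₀, e)] hcard hG hodd hg hm hB h2 ht htg hskip
  simp only [List.mem_singleton, Prod.mk.injEq] at hmem
  obtain ⟨rfl, rfl⟩ := hmem
  have hc1 : c = 1 := by
    have hm0 : 0 < n * e' := by rw [hne]; exact Nat.pos_of_ne_zero fun h => hm (h ▸ dvd_zero p)
    rw [← hne, ← mul_assoc] at hn
    exact Nat.eq_of_mul_eq_mul_left hm0 (by rw [hn, mul_one])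
  subst hc1
  rw [mul_one] at hC hN
  have hgc : Nat.card S = m * p := hcard.trans hg
  have hBc : Nat.card S ≤ B * B := hcard.le.trans hB
  have hp2 := (Fact.out : p.Prime).two_le
  have hY0 : 0 < (p - 1) / e' :=
    Nat.div_pos (Nat.le_of_dvd (by omega) hep) (by omega)
  obtain ⟨θ, hθ⟩ : Sh.Y.Nonempty := Finset.card_pos.1 (by rw [Sh.card_Y]; exact hY0)
  obtain ⟨X', hperm, hmem'⟩ := exists_combo (fun χ => sd Sh χ) _ Sh.X.toList
    (fun χ hχ => Sh.mem_cands_one hG hgc hBc (Finset.mem_toList.1 hχ))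
  have hX : Sh.X.card = e' - 1 := by have := Sh.card_X; omega
  rw [Finset.length_toList, hX] at hmem'
  have hsum : (X'.map fun χ => sd Sh χ).sum = ∑ χ ∈ Sh.X, sd Sh χ := by
    rw [(hperm.map _).sum_eq, Finset.sum_map_toList]
  have hrel := rel_one Sh hθ
  have hdl : X'.map (fun χ => sd Sh χ) ∈ degLists g m p e' B := by
    have hh := Sh.okAbs_Y hG hgc hep he2 hθ
    rw [hcard] at hh hmem'
    simp only [degLists, List.mem_filter, hmem', true_and, Bool.and_eq_true, beq_iff_eq, hsum, ← hrel]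
    exact hh
  simp only [List.all_eq_true, decide_eq_true_eq] at hall
  have hne' := hall _ hdl
  by_contra hnv
  apply hne'
  have hd0 : ∀ χ : IrrCharacter S, ¬ p ∣ dg χ := fun χ hd => hnv ⟨Fact.out, _, ⟨χ, rfl⟩, hd⟩
  have huniv : (Finset.univ : Finset (IrrCharacter S)) = {oneChar S} ∪ Sh.X ∪ Sh.Y := by
    refine (Finset.eq_univ_of_forall fun χ => ?_).symm
    by_contra hno
    simp only [Finset.mem_union, Finset.mem_singleton, not_or] at hno
    exact hd0 χ (dvd_dg_of_zero hP χ (Sh.outside hC χ hno.1.1 hno.1.2 hno.2))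
  have hsq := sum_dg_sq (G := S)
  have hYsum : ∑ ψ ∈ Sh.Y, dg ψ ^ 2 = Sh.Y.card • Sh.D ^ 2 := by
    rw [← Finset.sum_const]
    exact Finset.sum_congr rfl fun ψ hψ => by rw [show dg ψ = Sh.D from Sh.degree_Y ψ hψ]
  rw [huniv, Finset.sum_union (Finset.disjoint_union_left.2
    ⟨Finset.disjoint_singleton_left.2 Sh.one_notMem_Y, Sh.disjoint⟩),
    Finset.sum_union (Finset.disjoint_singleton_left.2 Sh.one_notMem_X), Finset.sum_singleton, dg_one,
    hYsum, Sh.card_Y, hcard] at hsq
  have hxx : ((X'.map fun χ => sd Sh χ).map fun x => x * x).sum = ∑ χ ∈ Sh.X, ((dg χ ^ 2 : ℕ) : ℤ) := by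
    rw [List.map_map, (hperm.map _).sum_eq, Finset.sum_map_toList]
    refine Finset.sum_congr rfl fun χ hχ => ?_
    simp only [Function.comp_apply, sd]
    rcases Sh.sign_X χ hχ with h | h <;> rw [h] <;> push_cast <;> ring
  rw [hxx, hsum, ← hrel]
  have hεε : Sh.ε * (Sh.D : ℤ) * (Sh.ε * (Sh.D : ℤ)) = ((Sh.D ^ 2 : ℕ) : ℤ) := by
    rcases Sh.sign with h | h <;> rw [h] <;> push_cast <;> ring
  rw [hεε, ← hsq]
  generalize (p - 1) / e' = k
  rw [smul_eq_mul]
  push_cast
  ring

theorem seven_skip : refutedTwo 2520 360 7 51 8 [(120, 3)] = true := by decide +kernel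

theorem five_skip : refutedTwo 2520 504 5 51 8 [(126, 4)] = true := by decide +kernel

theorem seven_all : (degLists 2520 360 7 3 51).all (fun l => decide
    (1 + (l.map fun x => x * x).sum + (((7 - 1) / 3 : ℕ) : ℤ) * ((1 + l.sum) * (1 + l.sum)) ≠ ((2520 : ℕ) : ℤ)))
      = true := by decide +kernel

theorem five_all : (degLists 2520 504 5 4 51).all (fun l => decide
    (1 + (l.map fun x => x * x).sum + (((5 - 1) / 4 : ℕ) : ℤ) * ((1 + l.sum) * (1 + l.sum)) ≠ ((2520 : ℕ) : ℤ)))
      = true := by decide +kernel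

theorem vertices_2520 (h : Nat.card S = 2520) : 5 ∈ degreePrimes S ∧ 7 ∈ degreePrimes S := by
  haveI : Fact (Nat.Prime 5) := ⟨by norm_num⟩
  haveI : Fact (Nat.Prime 7) := ⟨by norm_num⟩
  haveI := Fintype.ofFinite S
  exact ⟨mem_degreePrimes_of_lists 2520 5 504 51 8 126 4 h (by norm_num) (by norm_num) (by norm_num)
      (by norm_num) (by norm_num) ⟨3, rfl⟩ (by norm_num) five_skip (by norm_num) (by norm_num)
      (by norm_num) five_all,
    mem_degreePrimes_of_lists 2520 7 360 51 8 120 3 h (by norm_num) (by norm_num) (by norm_num)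
      (by norm_num) (by norm_num) ⟨3, rfl⟩ (by norm_num) seven_skip (by norm_num) (by norm_num)
      (by norm_num) seven_all⟩

end CfsgLib.Char.SmallGraph
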