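import Cfsg.Agent.Lib.Char.SmallGraph.Nonsolvable
import Cfsg.Agent.Lib.Char.SmallGraph.Simple
import Cfsg.Agent.Lib.Perm.Groups.AltAut
import Cfsg.Agent.Lib.Char.Product
import Cfsg.Agent.Lib.Char.Linear
import Cfsg.Agent.Lib.Char.TwoDegreesPrime

/-!
# Orders 360 and 504
-/

set_option autoImplicit false
set_option linter.all false

open Cfsg

namespace CfsgLib.Char.SmallGraph

universe u

variable {G : Type u} [Group G] [Finite G]

theorem sq_degree_le (χ : IrrCharacter G) :
    charDegree (χ : G → ℂ) * charDegree (χ : G → ℂ) ≤ Nat.card G ∧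
      charDegree (χ : G → ℂ) ∣ Nat.card G := by
  classical
  haveI := Fintype.ofFinite G
  refine ⟨?_, CfsgLib.Char.degree_dvd_card χ (Block.ItoMichler.one_eq_cast χ)⟩
  have h := CfsgLib.Char.TwoDegrees.degree_sq_le_center χ
  rw [← pow_two]
  exact h.trans (Nat.le_of_dvd Nat.card_pos (Subgroup.index_dvd_card _))

theorem five_smooth {q : ℕ} (hq : q.Prime) (hqd : q ∣ 120) : q = 3 ∨ q = 2 ∨ q = 5 := by
  have h120 : q ∣ 2 ^ 3 * (3 * 5) := by norm_num; exact hqd
  rcases hq.dvd_mul.1 h120 with h1 | h1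
  · exact Or.inr (Or.inl ((Nat.prime_dvd_prime_iff_eq hq Nat.prime_two).1 (hq.dvd_of_dvd_pow h1)))
  · rcases hq.dvd_mul.1 h1 with h2 | h2
    · exact Or.inl ((Nat.prime_dvd_prime_iff_eq hq Nat.prime_three).1 h2)
    · exact Or.inr (Or.inr ((Nat.prime_dvd_prime_iff_eq hq (by norm_num)).1 h2))

theorem five_conj_sq : ∀ σ : Equiv.Perm (Fin 5), σ * σ * σ * σ * σ = 1 →
    ∃ g : Equiv.Perm (Fin 5), g * σ * g⁻¹ = σ * σ := by
  decide +kernel

/-- A character of degree three takes the trivial value on an element of order five conjugate to its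
square. -/
theorem trivial_at_five {Q : Type u} [Group Q] [Finite Q] {m : ℕ}
    (ρ : Representation ℂ Q (Fin m → ℂ)) (hm : m = 3) {x g : Q} (hx : orderOf x = 5)
    (hg : g * x * g⁻¹ = x * x) : ρ x = 1 := by
  classical
  obtain ⟨b, μ, hμ, hb, hpow⟩ := CfsgLib.Char.exists_eigen_data ρ x
  rw [hx] at hμ
  have h5 : x ^ 5 = 1 := by rw [← hx, pow_orderOf_eq_one]
  have hc : ∀ y : Q, ρ.character (g * y * g⁻¹) = ρ.character y := fun y => Representation.char_conj ρ y g
  have e2 : ρ.character (x ^ 2) = ρ.character x := by rw [pow_two, ← hg, hc]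
  have e4 : ρ.character (x ^ 4) = ρ.character x := by
    have : g * x ^ 2 * g⁻¹ = x ^ 4 := by
      rw [← conj_pow, hg, ← pow_two, ← pow_mul]
    rw [← this, hc, e2]
  have e3 : ρ.character (x ^ 3) = ρ.character x := by
    have : g * x ^ 4 * g⁻¹ = x ^ 3 := by
      rw [← conj_pow, hg, ← pow_two, ← pow_mul, show 2 * 4 = 5 + 3 from rfl, pow_add, h5, one_mul]
    rw [← this, hc, e4]
  have hfin : Module.finrank ℂ (Fin m → ℂ) = 3 := by rw [Module.finrank_fin_fun, hm]
  set s := Finset.univ.filter (fun i => μ i = 1) with hs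
  have hgeo : ∀ i, ∑ j ∈ Finset.range 5, μ i ^ j = if μ i = 1 then (5 : ℂ) else 0 := by
    intro i
    split_ifs with he
    · simp [he]
    · rw [geom_sum_eq he, hμ, sub_self, zero_div]
  have hsum : ∑ j ∈ Finset.range 5, ρ.character (x ^ j) = (5 : ℂ) * (s.card : ℂ) := by
    simp only [hpow]
    rw [Finset.sum_comm, Finset.sum_congr rfl (fun i _ => hgeo i), ← Finset.sum_filter,
      Finset.sum_const, nsmul_eq_mul, hs]
    ring
  simp only [Finset.sum_range_succ, Finset.sum_range_zero, zero_add, pow_zero, pow_one, e2, e3, e4,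
    Representation.char_one, hfin] at hsum
  have hint : IsIntegral ℤ (ρ.character x) := CfsgLib.Char.char_pow_eq_sum_isIntegral ρ x
  have hsle : s.card ≤ 3 := (Finset.card_filter_le _ _).trans (by simp [hfin, hm])
  have hval : (((5 * (s.card : ℤ) - 3) : ℤ) : ℂ) / ((4 : ℕ) : ℂ) = ρ.character x := by
    push_cast at hsum ⊢
    linear_combination -(1 / 4 : ℂ) * hsum
  have hdvd := CfsgLib.LinDeg.dvd_of_isIntegral_div (b := 4) (by norm_num) (hval ▸ hint)
  have hs3 : s.card = 3 := by
    rw [Nat.cast_ofNat] at hdvd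
    omega
  have hall : ∀ i, μ i = 1 := by
    intro i
    have hseq : s = Finset.univ := Finset.eq_univ_of_card _ (by rw [hs3, Fintype.card_fin, hfin])
    have := hseq ▸ Finset.mem_univ i
    exact (Finset.mem_filter.1 this).2
  refine b.ext fun i => ?_
  have h1 := hb 1 i
  rw [pow_one, pow_one, hall i, one_smul] at h1
  rw [h1]
  rfl

/-- A non-trivial irreducible character is not trivial on a normal subgroup containing half the
group. -/
theorem kernel_small {m : ℕ} (ρ : Representation ℂ G (Fin m → ℂ)) (hρ : IsIrrCharacter G ρ.character)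
    (hm : m = 3) (T : Subgroup G) (hT : ∀ g ∈ T, ρ g = 1) : 9 * Nat.card T ≤ Nat.card G := by
  classical
  haveI := Fintype.ofFinite G
  haveI := Fintype.ofFinite T
  have h1 := CfsgLib.Char.classInner_irr_self (⟨_, hρ⟩ : IrrCharacter G)
  rw [classInner, inv_mul_eq_one₀ CfsgLib.Char.card_ne_zero'] at h1
  simp only [Complex.mul_conj, ← Complex.ofReal_sum] at h1
  have h1' : ∑ g : G, Complex.normSq (ρ.character g) = (Nat.card G : ℝ) := by exact_mod_cast h1.symm
  have hle := Finset.sum_le_sum_of_subset_of_nonneg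
    (Finset.subset_univ (Finset.univ.filter fun g : G => g ∈ T))
    (f := fun g => Complex.normSq (ρ.character g)) (fun _ _ _ => Complex.normSq_nonneg _)
  rw [h1', Finset.sum_congr rfl (g := fun _ => (9 : ℝ)) (fun g hg => by
    rw [Representation.character, hT g (Finset.mem_filter.1 hg).2, LinearMap.trace_one,
      Module.finrank_fin_fun, hm]
    norm_num), Finset.sum_const, ← Fintype.card_subtype, ← Nat.card_eq_fintype_card,
    nsmul_eq_mul] at hle
  have h2 : ((9 * Nat.card T : ℕ) : ℝ) ≤ (Nat.card G : ℝ) := by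
    push_cast
    rw [mul_comm]
    exact hle
  exact_mod_cast h2

/-- A head of order 60 embeds the quotient into the symmetric group of degree five. -/
theorem Head.exists_embed (h : Head G) (hT : Nat.card h.T = 60) :
    ∃ f : G ⧸ h.R →* Equiv.Perm (Fin 5), Function.Injective f := by
  classical
  obtain ⟨e⟩ := Cfsg.Agent.S0494.result hT
  let c : G ⧸ h.R →* MulAut h.T := MulAut.conjNormal
  have hc : Function.Injective c := by
    rw [injective_iff_map_eq_one]
    intro x hx
    have hmem : x ∈ Subgroup.centralizer (h.T : Set (G ⧸ h.R)) := by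
      refine Subgroup.mem_centralizer_iff.2 fun g hg => ?_
      have := congrArg (fun φ : MulAut h.T => ((φ ⟨g, hg⟩ : h.T) : G ⧸ h.R)) hx
      simp only [c, MulAut.conjNormal_apply, MulAut.one_apply] at this
      exact (mul_inv_eq_iff_eq_mul.1 this).symm
    rwa [h.centT, Subgroup.mem_bot] at hmem
  let α : Equiv.Perm (Fin 5) ≃* MulAut (alternatingGroup (Fin 5)) :=
    MulEquiv.ofBijective MulAut.conjNormal
      (CfsgLib.Perm.Groups.AltAut.conjNormal_bijective (by simp) (by simp))
  exact ⟨(((MulAut.congr e).trans α.symm).toMonoidHom).comp c,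
    ((MulAut.congr e).trans α.symm).injective.comp hc⟩

theorem false_of_head_360 (h : Head G) (hG : Nat.card G = 360) (h25 : (degreeGraph G).Adj 2 5)
    (h23 : ¬ (degreeGraph G).Adj 2 3) : False := by
  classical
  haveI : Fact (Nat.Prime 5) := ⟨by norm_num⟩
  haveI := Fintype.ofFinite G
  have hT : Nat.card h.T = 60 := by
    have h1 := h.memT
    have h2 : Nat.card h.T ∣ 360 := hG ▸ h.dvd_T.trans h.R.index_dvd_card
    have h3 := h.ltT
    rw [hG] at h3
    have key : ∀ t ∈ simpleOrders, t ∣ 360 → t < 360 → t = 60 := by decide +kernel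
    exact key _ h1 h2 h3
  obtain ⟨f, hf⟩ := h.exists_embed hT
  have hd : Nat.card (G ⧸ h.R) ∣ 120 := by
    have := Subgroup.card_dvd_of_injective f hf
    rwa [Nat.card_perm, Nat.card_fin, show Nat.factorial 5 = 120 from rfl] at this
  have h60 : 60 ∣ Nat.card (G ⧸ h.R) := hT ▸ h.dvd_T
  rcases (show Nat.card (G ⧸ h.R) = 60 ∨ Nat.card (G ⧸ h.R) = 120 by
    have key : ∀ q ∈ Nat.divisors 120, 60 ∣ q → q = 60 ∨ q = 120 := by decide +kernel
    exact key _ (Nat.mem_divisors.2 ⟨hd, by norm_num⟩) h60) with hQ | hQ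
  · -- the quotient is the head
    have hTtop : h.T = ⊤ := Subgroup.eq_top_of_card_eq _ (by rw [hT, hQ])
    haveI : IsSimpleGroup (G ⧸ h.R) := by
      have := h.simpleT
      haveI : IsSimpleGroup (⊤ : Subgroup (G ⧸ h.R)) := hTtop ▸ this
      haveI : Nontrivial (G ⧸ h.R) := Finite.one_lt_card_iff_nontrivial.1 (by omega)
      exact IsSimpleGroup.isSimpleGroup_of_surjective
        (Subgroup.topEquiv (G := G ⧸ h.R)).toMonoidHom (Subgroup.topEquiv (G := G ⧸ h.R)).surjective
    have hR : Nat.card h.R = 6 := by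
      have := h.card_mul
      rw [hQ, hG] at this
      omega
    set C := Subgroup.centralizer (h.R : Set G) with hC
    obtain ⟨x, hx⟩ := exists_prime_orderOf_dvd_card' (G := G) 5 (by rw [hG]; norm_num)
    have hxC : x ∈ C := Subgroup.mem_centralizer_iff.2 fun g hg =>
      (centralizes_of_okExp hx h.R (by rw [hR]; norm_num) (by rw [hR]; norm_num)
        (by rw [hR]; decide +kernel) g hg).symm
    have himg : C.map (QuotientGroup.mk' h.R) = ⊤ := by
      rcases Subgroup.Normal.eq_bot_or_eq_top
        (Subgroup.Normal.map (inferInstance : C.Normal) (QuotientGroup.mk' h.R)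
          (QuotientGroup.mk'_surjective _)) with e | e
      · exfalso
        have hxR : x ∈ h.R := by
          have := Subgroup.mem_map_of_mem (QuotientGroup.mk' h.R) hxC
          rw [e, Subgroup.mem_bot] at this
          exact (QuotientGroup.eq_one_iff x).1 this
        have h5 := Subgroup.orderOf_dvd_natCard _ hxR
        rw [hx, hR] at h5
        norm_num at h5
      · exact e
    have hdec : ∀ g : G, ∃ c ∈ C, ∃ r ∈ h.R, g = c * r := by
      intro g
      obtain ⟨c, hc, e⟩ := (himg ▸ Subgroup.mem_top ((g : G ⧸ h.R)) :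
        (g : G ⧸ h.R) ∈ C.map (QuotientGroup.mk' h.R))
      exact ⟨c, hc, c⁻¹ * g, QuotientGroup.eq.1 e, by group⟩
    by_cases hcom : ∀ a ∈ h.R, ∀ b ∈ h.R, a * b = b * a
    · have hcen : h.R ≤ Subgroup.center G := by
        intro r hr
        rw [Subgroup.mem_center_iff]
        intro g
        obtain ⟨c, hc, r', hr', rfl⟩ := hdec g
        have e1 : r * c = c * r := Subgroup.mem_centralizer_iff.1 hc r hr
        rw [mul_assoc, hcom r' hr' r hr, ← mul_assoc, ← e1, mul_assoc]
      obtain ⟨-, -, -, d, ⟨χ, rfl⟩, hd10⟩ := h25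
      have h10 : 10 ≤ charDegree (χ : G → ℂ) :=
        Nat.le_of_dvd (Nat.pos_of_ne_zero (CfsgLib.Block.charDegree_eq χ).2) hd10
      have hsq := CfsgLib.Char.TwoDegrees.degree_sq_le_center χ
      have hidx : (Subgroup.center G).index ≤ 60 := by
        have h1 := Subgroup.index_antitone hcen
        rw [show h.R.index = Nat.card (G ⧸ h.R) from rfl, hQ] at h1
        exact h1
      nlinarith
    · push Not at hcom
      obtain ⟨a, ha, b, hb, hab⟩ := hcom
      have hdis : ∀ g, g ∈ C → g ∈ h.R → g = 1 := by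
        intro g hgC hgR
        have hgz : (⟨g, hgR⟩ : h.R) ∈ Subgroup.center h.R := by
          rw [Subgroup.mem_center_iff]
          exact fun r => Subtype.ext (Subgroup.mem_centralizer_iff.1 hgC r r.2)
        have hz : Subgroup.center h.R = ⊥ := by
          have hd6 : Nat.card (Subgroup.center h.R) ∣ 6 := hR ▸ Subgroup.card_subgroup_dvd_card _
          rw [Subgroup.eq_bot_iff_card]
          by_contra h1
          have hm := (Subgroup.center h.R).card_mul_index
          rw [hR] at hm
          have key : ∀ q ∈ Nat.divisors 6, q ≠ 1 → 6 / q = 1 ∨ (6 / q).Prime := by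
            intro q hq hq1
            have k2 : ∀ q ∈ Nat.divisors 6, q ≠ 1 → 6 / q = 1 ∨ 6 / q = 2 ∨ 6 / q = 3 := by decide +kernel
            rcases k2 q hq hq1 with e | e | e
            · exact Or.inl e
            · exact Or.inr (e ▸ Nat.prime_two)
            · exact Or.inr (e ▸ Nat.prime_three)
          have hidx : (Subgroup.center h.R).index = 1 ∨ (Subgroup.center h.R).index.Prime := by
            have hpos : 0 < Nat.card (Subgroup.center h.R) := Nat.card_pos
            have e : 6 / Nat.card (Subgroup.center h.R) = (Subgroup.center h.R).index := by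
              rw [← hm, Nat.mul_div_cancel_left _ hpos]
            exact e ▸ key _ (Nat.mem_divisors.2 ⟨hd6, by norm_num⟩) h1
          refine hab (congrArg Subtype.val (?_ : (⟨a, ha⟩ : h.R) * ⟨b, hb⟩ = ⟨b, hb⟩ * ⟨a, ha⟩))
          rcases hidx with e | e
          · have := Subgroup.index_eq_one.1 e
            exact (Subgroup.mem_center_iff.1 (this ▸ Subgroup.mem_top (⟨b, hb⟩ : h.R)) ⟨a, ha⟩)
          · haveI := Fact.mk e
            haveI : IsCyclic (h.R ⧸ Subgroup.center h.R) := isCyclic_of_prime_card (p := (Subgroup.center h.R).index) rfl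
            exact ((isMulCommutative_of_isCyclic_quotient_center_self h.R).is_comm.comm _ _)
        rw [hz, Subgroup.mem_bot] at hgz
        exact congrArg Subtype.val hgz
      let e : C × h.R →* G := MonoidHom.noncommCoprod C.subtype h.R.subtype fun c r =>
        (Subgroup.mem_centralizer_iff.1 c.2 r r.2).symm
      have hinj : Function.Injective e := by
        rw [injective_iff_map_eq_one]
        rintro ⟨c, r⟩ hcr
        have hcr' : (c : G) * (r : G) = 1 := hcr
        have hc1 : (c : G) = 1 := hdis _ c.2 (by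
          rw [eq_inv_of_mul_eq_one_left hcr']; exact inv_mem r.2)
        rw [hc1, one_mul] at hcr'
        exact Prod.ext (Subtype.ext hc1) (Subtype.ext hcr')
      have hsurj : Function.Surjective e := by
        intro g
        obtain ⟨c, hc, r, hr, rfl⟩ := hdec g
        exact ⟨(⟨c, hc⟩, ⟨r, hr⟩), rfl⟩
      let E : C × h.R ≃* G := MulEquiv.ofBijective e ⟨hinj, hsurj⟩
      have hCc : Nat.card C = 60 := by
        have := Nat.card_congr E.toEquiv
        rw [Nat.card_prod, hR, hG] at this
        omega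
      have hCns : ¬ Group.IsSolvable C := by
        intro hs
        have hQs : Group.IsSolvable (G ⧸ h.R) :=
          Group.isSolvable_of_surjective (f := (QuotientGroup.mk' h.R).comp C.subtype) fun q => by
            obtain ⟨c, hc, e⟩ := (himg ▸ Subgroup.mem_top q : q ∈ C.map (QuotientGroup.mk' h.R))
            exact ⟨⟨c, hc⟩, e⟩
        exact h.noncommT ⟨⟨fun s t => Subtype.ext ((IsSimpleGroup.comm_iff_isSolvable.mpr hQs) s t)⟩⟩
      have h3 : 3 ∈ degreePrimes C := mem_of_three_primes hCns (a := 2) (b := 5) fun q hq hqd => by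
        rw [hCc] at hqd
        exact five_smooth hq (hqd.trans (by norm_num))
      obtain ⟨-, -, ⟨φ, rfl⟩, hd3⟩ := h3
      obtain ⟨θ, hθ⟩ : ∃ θ : IrrCharacter h.R, (θ : h.R → ℂ) 1 ≠ 1 := by
        by_contra hall
        push Not at hall
        exact hab (congrArg Subtype.val (CfsgLib.Char.comm_of_degree_one hall ⟨a, ha⟩ ⟨b, hb⟩))
      have hd2 : charDegree (θ : h.R → ℂ) = 2 := by
        obtain ⟨h1, h2⟩ := sq_degree_le θ
        rw [hR] at h1 h2
        have hne1 : charDegree (θ : h.R → ℂ) ≠ 1 := fun e => hθ (by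
          rw [Block.ItoMichler.one_eq_cast, e, Nat.cast_one])
        have h3 : charDegree (θ : h.R → ℂ) ≤ 2 := by nlinarith
        have h4 := Nat.pos_of_dvd_of_pos h2 (by norm_num)
        omega
      refine h23 ⟨by norm_num, by norm_num, by norm_num, charDegree (φ : C → ℂ) * 2, ?_, ?_⟩
      · have h4 : charDegree (φ : C → ℂ) * 2 ∈ charDegrees (C × h.R) := by
          refine ⟨⟨_, CfsgLib.Char.isIrrCharacter_prod φ θ⟩, CfsgLib.Char.ThreeDegrees.charDegree_of_eq ?_⟩
          show (φ : C → ℂ) 1 * (θ : h.R → ℂ) 1 = _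
          rw [Block.ItoMichler.one_eq_cast, Block.ItoMichler.one_eq_cast, hd2, Nat.cast_mul]
        rwa [charDegrees_equiv E] at h4
      · obtain ⟨k, hk⟩ := hd3
        exact ⟨k, by rw [hk]; ring⟩
  · -- the quotient is the symmetric group
    have hbij : Function.Bijective f :=
      (Nat.bijective_iff_injective_and_card f).2 ⟨hf, by rw [hQ, Nat.card_perm, Nat.card_fin]; rfl⟩
    obtain ⟨x', hx'⟩ := exists_prime_orderOf_dvd_card' (G := h.T) 5 (by rw [hT]; norm_num)
    have hx : orderOf (x' : G ⧸ h.R) = 5 := by rw [Subgroup.orderOf_coe, hx']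
    have hfx : orderOf (f x') = 5 := (orderOf_injective f hf _).trans hx
    obtain ⟨g', hg'⟩ := five_conj_sq (f x') (by
      rw [show f x' * f x' * f x' * f x' * f x' = f x' ^ 5 by simp [pow_succ]]
      exact orderOf_dvd_iff_pow_eq_one.1 (dvd_of_eq hfx))
    obtain ⟨g, rfl⟩ := hbij.2 g'
    have hg : g * (x' : G ⧸ h.R) * g⁻¹ = x' * x' := hbij.1 (by simpa using hg')
    have hQns : ¬ Group.IsSolvable (G ⧸ h.R) := fun hs =>
      h.noncommT ⟨⟨IsSimpleGroup.comm_iff_isSolvable.mpr inferInstance⟩⟩
    have h3 : 3 ∈ degreePrimes (G ⧸ h.R) := mem_of_three_primes hQns (a := 2) (b := 5) fun q hq hqd => by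
      rw [hQ] at hqd
      exact five_smooth hq hqd
    obtain ⟨-, -, ⟨χ, rfl⟩, hd3⟩ := h3
    obtain ⟨hle, hdc⟩ := sq_degree_le χ
    rw [hQ] at hle hdc
    have h36 : charDegree (χ : G ⧸ h.R → ℂ) = 3 ∨ charDegree (χ : G ⧸ h.R → ℂ) = 6 := by
      have hb : charDegree (χ : G ⧸ h.R → ℂ) < 11 := by nlinarith
      have key : ∀ d < 11, d ∣ 120 → 3 ∣ d → d = 3 ∨ d = 6 := by decide +kernel
      exact key _ hb hdc hd3
    rcases h36 with h3 | h6
    · have hone := Block.ItoMichler.one_eq_cast χ
      rw [h3] at hone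
      obtain ⟨m, ρ, hρ, hρe⟩ := χ.2
      rw [← hρe, Representation.char_one, Module.finrank_fin_fun] at hone
      have hm : m = 3 := by exact_mod_cast hone
      have hx1 : ρ (x' : G ⧸ h.R) = 1 := trivial_at_five ρ hm hx hg
      have hker : ∀ t ∈ h.T, ρ t = 1 := by
        let K : Subgroup h.T := ρ.ker.subgroupOf h.T
        intro t ht
        rcases Subgroup.Normal.eq_bot_or_eq_top (inferInstance : K.Normal) with e | e
        · exfalso
          have hmem : x' ∈ K := hx1
          rw [e, Subgroup.mem_bot] at hmem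
          rw [hmem, orderOf_one] at hx'
          norm_num at hx'
        · exact (e ▸ Subgroup.mem_top (⟨t, ht⟩ : h.T) : (⟨t, ht⟩ : h.T) ∈ K)
      have := kernel_small ρ ⟨m, ρ, hρ, rfl⟩ hm h.T hker
      rw [hT, hQ] at this
      omega
    · exact h23 (adj_of_surjective (QuotientGroup.mk' h.R) (QuotientGroup.mk'_surjective _)
        ⟨by norm_num, by norm_num, by norm_num, _, ⟨χ, rfl⟩, by rw [h6]⟩)

theorem false_of_head_504 (h : Head G) (hG : Nat.card G = 504) (h23 : ¬ (degreeGraph G).Adj 2 3) :
    False := by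
  have hT : Nat.card h.T = 168 := by
    have h1 := h.memT
    have h2 : Nat.card h.T ∣ 504 := hG ▸ h.dvd_T.trans h.R.index_dvd_card
    have h3 := h.ltT
    rw [hG] at h3
    have key : ∀ t ∈ simpleOrders, t ∣ 504 → t < 504 → t = 168 := by decide +kernel
    exact key _ h1 h2 h3
  exact h23 (adj_of_surjective (QuotientGroup.mk' h.R) (QuotientGroup.mk'_surjective _)
    (adj_of_normal h.T (facts_168 hT)))

end CfsgLib.Char.SmallGraph
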