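import Cfsg.Agent.Lib.Char.SmallGraph.Solvable
import Cfsg.Agent.Lib.Char.SmallGraph.SixtyCases
import Cfsg.Agent.S3669

/-!
# Simple groups of order below 6000 are determined by order and degree graph
-/

set_option autoImplicit false
set_option linter.all false

open Cfsg

namespace CfsgLib.Char.SmallGraph

universe u v

variable {S : Type u} [Group S] [Finite S] [IsSimpleGroup S] {G : Type v} [Group G] [Finite G]

theorem prime_cases {n a b c : ℕ} {i j k : ℕ} (ha : a.Prime) (hb : b.Prime) (hc : c.Prime)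
    (hn : n = a ^ i * (b ^ j * c ^ k)) {q : ℕ} (hq : q.Prime) (hd : q ∣ n) :
    q = a ∨ q = b ∨ q = c := by
  rw [hn] at hd
  rcases hq.dvd_mul.1 hd with h | h
  · exact Or.inl ((Nat.prime_dvd_prime_iff_eq hq ha).1 (hq.dvd_of_dvd_pow h))
  · rcases hq.dvd_mul.1 h with h | h
    · exact Or.inr (Or.inl ((Nat.prime_dvd_prime_iff_eq hq hb).1 (hq.dvd_of_dvd_pow h)))
    · exact Or.inr (Or.inr ((Nat.prime_dvd_prime_iff_eq hq hc).1 (hq.dvd_of_dvd_pow h)))

theorem not_solvable_of_graph (hS : ¬ IsMulCommutative S) (hn : Nat.card S ∈ simpleOrders)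
    (hcard : Nat.card G = Nat.card S) (hV : degreePrimes G = degreePrimes S) :
    ¬ Group.IsSolvable G := by
  intro hsol
  have hSns := simple_not_solvable hS
  have none : ∀ {r : ℕ}, r.Prime → r ∣ Nat.card G → ¬ r * r ∣ Nat.card G → r ∈ degreePrimes S →
      okExp (Nat.card G) r 1 = true → Nat.card G < 2 ^ 13 → False := by
    intro r hr h1 h2 h3 h4 h5
    obtain ⟨q, a, hq, ha, he, -⟩ := solvable_exception hr h1 h2 h5 (hV ▸ h3) h4
    exact (Nat.one_lt_pow (by omega) hq.one_lt).ne' he
  have one : ∀ {r q₀ a₀ : ℕ}, r.Prime → q₀.Prime → r ∣ Nat.card G → ¬ r * r ∣ Nat.card G →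
      r ∈ degreePrimes S → q₀ ∈ degreePrimes S → okExp (Nat.card G) r (q₀ ^ a₀) = true →
      ¬ q₀ ^ (a₀ + 1) ∣ Nat.card G → Nat.card G < 2 ^ 13 → False := by
    intro r q₀ a₀ hr hq₀ h1 h2 h3 h3' h4 hmax h5
    obtain ⟨q, a, hq, ha, he, hout⟩ := solvable_exception hr h1 h2 h5 (hV ▸ h3) h4
    have hqq : q = q₀ := by
      have h : q ∣ q₀ ^ a₀ := he ▸ dvd_pow_self q (by omega)
      exact (Nat.prime_dvd_prime_iff_eq hq hq₀).1 (hq.dvd_of_dvd_pow h)
    subst hqq
    have haa : a = a₀ := Nat.pow_right_injective hq.two_le he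
    subst haa
    exact hout hmax (hV ▸ h3')
  have h2p := Nat.prime_two
  have h3p := Nat.prime_three
  have h5p : Nat.Prime 5 := by norm_num
  have h7p : Nat.Prime 7 := by norm_num
  have h13p : Nat.Prime 13 := by norm_num
  have h17p : Nat.Prime 17 := by norm_num
  simp only [simpleOrders, List.mem_cons, List.not_mem_nil, or_false] at hn
  rcases hn with h | h | h | h | h | h | h | h | h | h | h <;> rw [h] at hcard
  · refine none h5p (by rw [hcard]; norm_num) (by rw [hcard]; norm_num)
      (mem_of_three_primes hSns (a := 2) (b := 3) fun q hq hd =>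
        prime_cases (i := 1) (j := 2) (k := 1) h5p h2p h3p (by norm_num) hq (h ▸ hd))
      (by rw [hcard]; decide +kernel) (by rw [hcard]; norm_num)
  · refine one (r := 7) (q₀ := 2) (a₀ := 3) h7p h2p (by rw [hcard]; norm_num) (by rw [hcard]; norm_num)
      (mem_of_three_primes hSns (a := 2) (b := 3) fun q hq hd =>
        prime_cases (i := 1) (j := 3) (k := 1) h7p h2p h3p (by norm_num) hq (h ▸ hd))
      (mem_of_three_primes hSns (a := 7) (b := 3) fun q hq hd =>
        prime_cases (i := 3) (j := 1) (k := 1) h2p h7p h3p (by norm_num) hq (h ▸ hd))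
      (by rw [hcard]; decide +kernel) (by rw [hcard]; norm_num) (by rw [hcard]; norm_num)
  · refine none h5p (by rw [hcard]; norm_num) (by rw [hcard]; norm_num)
      (mem_of_three_primes hSns (a := 2) (b := 3) fun q hq hd =>
        prime_cases (i := 1) (j := 3) (k := 2) h5p h2p h3p (by norm_num) hq (h ▸ hd))
      (by rw [hcard]; decide +kernel) (by rw [hcard]; norm_num)
  · refine one (r := 7) (q₀ := 2) (a₀ := 3) h7p h2p (by rw [hcard]; norm_num) (by rw [hcard]; norm_num)
      (mem_of_three_primes hSns (a := 2) (b := 3) fun q hq hd =>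
        prime_cases (i := 1) (j := 3) (k := 2) h7p h2p h3p (by norm_num) hq (h ▸ hd))
      (mem_of_three_primes hSns (a := 7) (b := 3) fun q hq hd =>
        prime_cases (i := 3) (j := 1) (k := 2) h2p h7p h3p (by norm_num) hq (h ▸ hd))
      (by rw [hcard]; decide +kernel) (by rw [hcard]; norm_num) (by rw [hcard]; norm_num)
  · exact none (r := 11) (by norm_num) (by rw [hcard]; norm_num) (by rw [hcard]; norm_num)
      (vertex_660 h) (by rw [hcard]; decide +kernel) (by rw [hcard]; norm_num)
  · exact none (r := 13) h13p (by rw [hcard]; norm_num) (by rw [hcard]; norm_num)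
      (vertex_1092 h) (by rw [hcard]; decide +kernel) (by rw [hcard]; norm_num)
  · refine none h17p (by rw [hcard]; norm_num) (by rw [hcard]; norm_num)
      (mem_of_three_primes hSns (a := 2) (b := 3) fun q hq hd =>
        prime_cases (i := 1) (j := 4) (k := 2) h17p h2p h3p (by norm_num) hq (h ▸ hd))
      (by rw [hcard]; decide +kernel) (by rw [hcard]; norm_num)
  · exact none (r := 5) h5p (by rw [hcard]; norm_num) (by rw [hcard]; norm_num)
      (vertices_2520 h).1 (by rw [hcard]; decide +kernel) (by rw [hcard]; norm_num)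
  · exact none (r := 19) (by norm_num) (by rw [hcard]; norm_num) (by rw [hcard]; norm_num)
      (vertex_3420 h) (by rw [hcard]; decide +kernel) (by rw [hcard]; norm_num)
  · exact none (r := 17) h17p (by rw [hcard]; norm_num) (by rw [hcard]; norm_num)
      (vertex_4080 h) (by rw [hcard]; decide +kernel) (by rw [hcard]; norm_num)
  · refine one (r := 13) (q₀ := 3) (a₀ := 3) h13p h3p (by rw [hcard]; norm_num) (by rw [hcard]; norm_num)
      (mem_of_three_primes hSns (a := 2) (b := 3) fun q hq hd =>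
        prime_cases (i := 1) (j := 4) (k := 3) h13p h2p h3p (by norm_num) hq (h ▸ hd))
      (mem_of_three_primes hSns (a := 13) (b := 2) fun q hq hd =>
        prime_cases (i := 3) (j := 1) (k := 4) h3p h13p h2p (by norm_num) hq (h ▸ hd))
      (by rw [hcard]; decide +kernel) (by rw [hcard]; norm_num) (by rw [hcard]; norm_num)

theorem head_options : ∀ n ∈ simpleOrders, ∀ t ∈ simpleOrders, t ∣ n → t < n →
    (n = 360 ∧ t = 60) ∨ (n = 504 ∧ t = 168) ∨ (n = 660 ∧ t = 60) ∨ (n = 3420 ∧ t = 60) ∨
      (n = 4080 ∧ t = 60) ∨ (n = 2520 ∧ (t = 60 ∨ t = 168 ∨ t = 360 ∨ t = 504)) := by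
  decide +kernel

theorem no_head (hn : Nat.card S ∈ simpleOrders) (hcard : Nat.card G = Nat.card S)
    (hV : degreePrimes G = degreePrimes S) (hE : degreeGraph G = degreeGraph S) (h : Head G) : False := by
  have hd : Nat.card h.T ∣ Nat.card S := hcard ▸ h.dvd_T.trans h.R.index_dvd_card
  have generic : ∀ {r : ℕ}, r.Prime → ¬ r * r ∣ Nat.card G → r ∣ Nat.card G → ¬ r ∣ Nat.card h.T →
      Nat.card h.T < 2 ^ 13 → okExp (Nat.card h.T) r 1 = true →
      (∀ d ∈ Nat.divisors (Nat.card G / Nat.card h.T / r), d % r = 1 → d = 1) →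
      r ∈ degreePrimes S → False := fun hr h1 h2 h3 h4 h5 h6 h7 =>
    h.not_mem_of_okExp hr h1 h2 h3 h4 h5 h6 (hV ▸ h7)
  rcases head_options _ hn _ h.memT hd (hcard ▸ h.ltT) with
    ⟨hS, hT⟩ | ⟨hS, hT⟩ | ⟨hS, hT⟩ | ⟨hS, hT⟩ | ⟨hS, hT⟩ | ⟨hS, hT⟩
  · have hf := facts_360 hS
    exact false_of_head_360 h (hcard.trans hS) (hE ▸ hf.1) (hE ▸ hf.2)
  · exact false_of_head_504 h (hcard.trans hS) (hE ▸ facts_504 hS)
  · exact generic (r := 11) (by norm_num) (by rw [hcard, hS]; norm_num) (by rw [hcard, hS]; norm_num)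
      (by rw [hT]; norm_num) (by rw [hT]; norm_num) (by rw [hT]; decide +kernel)
      (by rw [hcard, hS, hT]; decide +kernel) (vertex_660 hS)
  · exact generic (r := 19) (by norm_num) (by rw [hcard, hS]; norm_num) (by rw [hcard, hS]; norm_num)
      (by rw [hT]; norm_num) (by rw [hT]; norm_num) (by rw [hT]; decide +kernel)
      (by rw [hcard, hS, hT]; decide +kernel) (vertex_3420 hS)
  · exact generic (r := 17) (by norm_num) (by rw [hcard, hS]; norm_num) (by rw [hcard, hS]; norm_num)
      (by rw [hT]; norm_num) (by rw [hT]; norm_num) (by rw [hT]; decide +kernel)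
      (by rw [hcard, hS, hT]; decide +kernel) (vertex_4080 hS)
  · obtain ⟨v5, v7⟩ := vertices_2520 hS
    rcases hT with hT | hT | hT | hT
    · exact generic (r := 7) (by norm_num) (by rw [hcard, hS]; norm_num) (by rw [hcard, hS]; norm_num)
        (by rw [hT]; norm_num) (by rw [hT]; norm_num) (by rw [hT]; decide +kernel)
        (by rw [hcard, hS, hT]; decide +kernel) v7
    · exact generic (r := 5) (by norm_num) (by rw [hcard, hS]; norm_num) (by rw [hcard, hS]; norm_num)
        (by rw [hT]; norm_num) (by rw [hT]; norm_num) (by rw [hT]; decide +kernel)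
        (by rw [hcard, hS, hT]; decide +kernel) v5
    · exact h.not_mem_of_no_action (r := 7) (by norm_num) (by rw [hcard, hS]; norm_num)
        (by rw [hcard, hS]; norm_num) (by rw [hT]; norm_num)
        (fun x hx => centralizes_three_sixty hx h.T hT)
        (by rw [hcard, hS, hT]; decide +kernel) (hV ▸ v7)
    · exact generic (r := 5) (by norm_num) (by rw [hcard, hS]; norm_num) (by rw [hcard, hS]; norm_num)
        (by rw [hT]; norm_num) (by rw [hT]; norm_num) (by rw [hT]; decide +kernel)
        (by rw [hcard, hS, hT]; decide +kernel) v5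

theorem small_simple_by_graph (hS : ¬ IsMulCommutative S) (hlt : Nat.card S < 6000)
    (hcard : Nat.card G = Nat.card S) (hV : degreePrimes G = degreePrimes S)
    (hE : degreeGraph G = degreeGraph S) : Nonempty (G ≃* S) := by
  have hn := simple_card_mem hS hlt
  by_cases h60 : Nat.card S = 60
  · obtain ⟨e⟩ := Cfsg.Agent.S0494.result h60
    obtain ⟨h1, h2⟩ := graph_equiv e
    obtain ⟨f⟩ := Cfsg.Agent.S3669.result (hcard.trans h60) ⟨hV.trans h1, hE.trans h2⟩
    exact ⟨f.trans e.symm⟩
  by_cases hsimp : IsSimpleGroup G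
  · exact iso_of_simple (S := G) (T := S) (hcard ▸ hn) hcard.symm
  · obtain ⟨h⟩ := exists_head (hcard ▸ hn) (not_solvable_of_graph hS hn hcard hV) hsimp
    exact (no_head hn hcard hV hE h).elim

end CfsgLib.Char.SmallGraph
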