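import Cfsg.Agent.Lib.Char.SmallGraph.Orders
import Cfsg.Agent.Lib.Perm.Groups.PowerSimple
import Cfsg.Agent.Lib.Perm.Small.OrderTools

/-!
# Non-solvable, non-simple groups of the small orders: the head
-/

set_option autoImplicit false
set_option linter.all false

open Cfsg

namespace CfsgLib.Char.SmallGraph

universe u

variable {G : Type u} [Group G] [Finite G]

theorem exists_radical : ∃ R : Subgroup G, R.Normal ∧ Group.IsSolvable R ∧
    ∀ N : Subgroup G, N.Normal → Group.IsSolvable N → R ≤ N → N = R := by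
  classical
  haveI : Fintype (Subgroup G) := Fintype.ofFinite _
  obtain ⟨R, hR⟩ := Finset.exists_maximal
    (s := Finset.univ.filter fun N : Subgroup G => N.Normal ∧ Group.IsSolvable N)
    ⟨⊥, Finset.mem_filter.2 ⟨Finset.mem_univ _, inferInstance, inferInstance⟩⟩
  obtain ⟨hRn, hRs⟩ := (Finset.mem_filter.1 hR.prop).2
  exact ⟨R, hRn, hRs, fun N hN hNs hle =>
    le_antisymm (hR.2 (Finset.mem_filter.2 ⟨Finset.mem_univ _, hN, hNs⟩) hle) hle⟩

/-- The head of a non-solvable, non-simple group of small order. -/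
structure Head (G : Type u) [Group G] : Type u where
  R : Subgroup G
  normR : R.Normal
  solR : Group.IsSolvable R
  T : Subgroup (G ⧸ R)
  normT : T.Normal
  simpleT : IsSimpleGroup T
  noncommT : ¬ IsMulCommutative T
  memT : Nat.card T ∈ simpleOrders
  ltT : Nat.card T < Nat.card G
  centT : Subgroup.centralizer (T : Set (G ⧸ R)) = ⊥

attribute [instance] Head.normR Head.normT Head.simpleT

theorem Head.card_mul (h : Head G) : Nat.card (G ⧸ h.R) * Nat.card h.R = Nat.card G :=
  (Subgroup.card_eq_card_quotient_mul_card_subgroup h.R).symm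

theorem Head.dvd_T (h : Head G) : Nat.card h.T ∣ Nat.card (G ⧸ h.R) :=
  Subgroup.card_subgroup_dvd_card _

theorem exists_head (hn : Nat.card G ∈ simpleOrders) (hns : ¬ Group.IsSolvable G)
    (hsimp : ¬ IsSimpleGroup G) : Nonempty (Head G) := by
  classical
  obtain ⟨R, hRn, hRs, hRmax⟩ := exists_radical (G := G)
  have hlt : Nat.card G < 6000 := by
    have : ∀ n ∈ simpleOrders, n < 6000 := by decide +kernel
    exact this _ hn
  have htriv : ∀ N : Subgroup (G ⧸ R), N.Normal → Group.IsSolvable N → N = ⊥ := by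
    intro N hN hNs
    haveI := hN
    let f : N.comap (QuotientGroup.mk' R) →* N :=
      ((QuotientGroup.mk' R).comp (N.comap (QuotientGroup.mk' R)).subtype).codRestrict N fun x => x.2
    have hker : f.ker ≤ (Subgroup.inclusion
        (show R ≤ N.comap (QuotientGroup.mk' R) from fun x hx => by
          rw [Subgroup.mem_comap, QuotientGroup.mk'_apply, (QuotientGroup.eq_one_iff x).2 hx]
          exact one_mem N)).range := by
      intro x hx
      have hx' : ((x : G) : G ⧸ R) = 1 := congrArg Subtype.val (MonoidHom.mem_ker.1 hx)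
      exact ⟨⟨x, (QuotientGroup.eq_one_iff _).1 hx'⟩, Subtype.ext rfl⟩
    have hs : Group.IsSolvable (N.comap (QuotientGroup.mk' R)) :=
      Group.isSolvable_of_ker_le_range _ f hker
    have he := hRmax (N.comap (QuotientGroup.mk' R)) inferInstance hs (fun x hx => by
      rw [Subgroup.mem_comap, QuotientGroup.mk'_apply, (QuotientGroup.eq_one_iff x).2 hx]
      exact one_mem N)
    rw [← Subgroup.map_comap_eq_self_of_surjective (QuotientGroup.mk'_surjective R) N, he,
      QuotientGroup.map_mk'_self]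
  haveI : Nontrivial (G ⧸ R) := by
    rcases subsingleton_or_nontrivial (G ⧸ R) with h | h
    · exfalso
      refine hns (Group.isSolvable_of_ker_le_range R.subtype (QuotientGroup.mk' R) ?_)
      rw [QuotientGroup.ker_mk', Subgroup.range_subtype]
    · exact h
  haveI : Fintype (Subgroup (G ⧸ R)) := Fintype.ofFinite _
  obtain ⟨T, hT⟩ := Finset.exists_minimal
    (s := Finset.univ.filter fun T : Subgroup (G ⧸ R) => T.Normal ∧ T ≠ ⊥)
    ⟨⊤, Finset.mem_filter.2 ⟨Finset.mem_univ _, inferInstance, top_ne_bot⟩⟩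
  obtain ⟨hTn, hTb⟩ := (Finset.mem_filter.1 hT.prop).2
  haveI := hTn
  haveI : Nontrivial T := Subgroup.nontrivial_iff_ne_bot T |>.2 hTb
  have hchar : ∀ H : Subgroup T, H.Characteristic → H = ⊥ ∨ H = ⊤ := by
    intro H hH
    by_cases hb : H = ⊥
    · exact Or.inl hb
    right
    have hle := hT.2 (Finset.mem_filter.2 ⟨Finset.mem_univ _,
      (inferInstance : (H.map T.subtype).Normal), fun h => hb
        ((Subgroup.map_eq_bot_iff_of_injective H T.subtype_injective).1 h)⟩) (Subgroup.map_subtype_le H)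
    rw [eq_top_iff]
    intro x _
    obtain ⟨y, hy, e⟩ := hle x.2
    exact Subtype.ext e ▸ hy
  have hTns : ¬ Group.IsSolvable T := fun h => hTb (htriv T hTn h)
  obtain ⟨A, _, hA, k, hk, ⟨e⟩⟩ :=
    CfsgLib.Perm.Groups.exists_power_of_charSimple (G := T) hchar
  have hQG : Nat.card (G ⧸ R) ∣ Nat.card G := R.index_dvd_card
  have hTG : Nat.card T ∣ Nat.card G := (Subgroup.card_subgroup_dvd_card T).trans hQG
  have hAf : Finite A := Finite.of_injective (fun a : A => e.symm (fun _ => a)) (fun a b h => by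
    haveI : NeZero k := ⟨by omega⟩
    exact congrFun (e.symm.injective h) 0)
  have hcA : Nat.card T = Nat.card A ^ k := by
    rw [Nat.card_congr e.toEquiv, Nat.card_fun, Nat.card_fin]
  have hAnc : ¬ IsMulCommutative A := fun hc => hTns (by
    refine Group.isSolvable_of_comm fun a b => e.injective ?_
    funext i
    rw [map_mul, map_mul, Pi.mul_apply, Pi.mul_apply]
    exact hc.is_comm.comm _ _)
  have hAd : Nat.card A ∣ Nat.card G := (dvd_pow_self _ (by omega)).trans (hcA ▸ hTG)
  have hAmem := simple_card_mem hAnc (lt_of_le_of_lt (Nat.le_of_dvd Nat.card_pos hAd) hlt)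
  obtain rfl : k = 1 := by
    by_contra hne
    refine not_mul_dvd _ hAmem _ hAmem _ hn ?_
    rw [← pow_two]
    exact (pow_dvd_pow _ (by omega)).trans (hcA ▸ hTG)
  rw [pow_one] at hcA
  let e' : T ≃* A := e.trans
    { Equiv.funUnique (Fin 1) A with map_mul' := fun _ _ => rfl }
  haveI : IsSimpleGroup T := IsSimpleGroup.isSimpleGroup_of_surjective e'.symm.toMonoidHom
    e'.symm.surjective
  have hTnc : ¬ IsMulCommutative T := fun hc => hTns (Group.isSolvable_of_comm hc.is_comm.comm)
  have hcent : Subgroup.centralizer (T : Set (G ⧸ R)) = ⊥ := by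
    set C := Subgroup.centralizer (T : Set (G ⧸ R)) with hC
    refine htriv C inferInstance ?_
    by_contra hCs
    obtain ⟨s, hs, hsd⟩ := exists_order_dvd _ C rfl (lt_of_le_of_lt (Nat.le_of_dvd Nat.card_pos
      ((Subgroup.card_subgroup_dvd_card C).trans hQG)) hlt) hCs
    refine not_mul_dvd _ hs _ (hcA ▸ hAmem) _ hn ?_
    have hdis : Disjoint C T := by
      rw [disjoint_iff]
      refine htriv _ inferInstance (Group.isSolvable_of_comm fun a b => Subtype.ext ?_)
      exact ((Subgroup.mem_centralizer_iff.1 (Subgroup.mem_inf.1 a.2).1) _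
        (Subgroup.mem_inf.1 b.2).2).symm
    have hcard : Nat.card C * Nat.card T ∣ Nat.card G := by
      refine dvd_trans ?_ hQG
      let f : C × T →* G ⧸ R := MonoidHom.noncommCoprod C.subtype T.subtype fun c t =>
        (Subgroup.mem_centralizer_iff.1 c.2 _ t.2).symm
      have hf : Function.Injective f := by
        rw [injective_iff_map_eq_one]
        rintro ⟨c, t⟩ hct
        have hct' : (c : G ⧸ R) * (t : G ⧸ R) = 1 := hct
        have hc : (c : G ⧸ R) ∈ C ⊓ T := Subgroup.mem_inf.2 ⟨c.2, by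
          rw [eq_inv_of_mul_eq_one_left hct']; exact inv_mem t.2⟩
        rw [disjoint_iff.1 hdis, Subgroup.mem_bot] at hc
        rw [hc, one_mul] at hct'
        exact Prod.ext (Subtype.ext hc) (Subtype.ext hct')
      have := Subgroup.card_dvd_of_injective f hf
      rwa [Nat.card_prod] at this
    exact (mul_dvd_mul_right hsd _).trans hcard
  refine ⟨⟨R, hRn, hRs, T, hTn, inferInstance, hTnc, hcA ▸ hAmem, ?_, hcent⟩⟩
  refine lt_of_le_of_ne (Nat.le_of_dvd Nat.card_pos hTG) fun h => hsimp ?_
  have h1 : Nat.card T ≤ Nat.card (G ⧸ R) := Nat.le_of_dvd Nat.card_pos (Subgroup.card_subgroup_dvd_card T)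
  have h2 : Nat.card (G ⧸ R) ≤ Nat.card G := Nat.le_of_dvd Nat.card_pos hQG
  have hQT : T = ⊤ := Subgroup.eq_top_of_card_eq T (by omega)
  have hinj : Function.Bijective (QuotientGroup.mk' R) :=
    (Nat.bijective_iff_surjective_and_card _).2 ⟨QuotientGroup.mk'_surjective R, by omega⟩
  subst hQT
  haveI : IsSimpleGroup (G ⧸ R) := IsSimpleGroup.isSimpleGroup_of_surjective
    (Subgroup.topEquiv (G := G ⧸ R)).toMonoidHom (Subgroup.topEquiv (G := G ⧸ R)).surjective
  haveI : Nontrivial G := (MulEquiv.ofBijective _ hinj).toEquiv.nontrivial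
  exact IsSimpleGroup.isSimpleGroup_of_surjective (MulEquiv.ofBijective _ hinj).symm.toMonoidHom
    (MulEquiv.ofBijective _ hinj).symm.surjective

/-- A prime exactly dividing the order, which cannot act on the head, divides no degree. -/
theorem Head.not_mem_of_no_action (h : Head G) {r : ℕ} (hr : r.Prime)
    (hr2 : ¬ r * r ∣ Nat.card G) (hrG : r ∣ Nat.card G) (hrT : ¬ r ∣ Nat.card h.T)
    (hact : ∀ x : G ⧸ h.R, orderOf x = r → ∀ g ∈ h.T, x * g = g * x)
    (hsyl : ∀ d ∈ Nat.divisors (Nat.card G / Nat.card h.T / r), d % r = 1 → d = 1) :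
    r ∉ degreePrimes G := by
  classical
  haveI := Fact.mk hr
  have hQ : ¬ r ∣ Nat.card (G ⧸ h.R) := by
    intro hd
    obtain ⟨x, hx⟩ := exists_prime_orderOf_dvd_card' r hd
    have hxC : x ∈ Subgroup.centralizer (h.T : Set (G ⧸ h.R)) :=
      Subgroup.mem_centralizer_iff.2 fun g hg => (hact x hx g hg).symm
    rw [h.centT, Subgroup.mem_bot] at hxC
    rw [hxC, orderOf_one] at hx
    exact hr.one_lt.ne hx
  have hrR : r ∣ Nat.card h.R :=
    (hr.dvd_mul.1 (h.card_mul ▸ hrG)).resolve_left hQ
  have hr2R : ¬ r * r ∣ Nat.card h.R := fun hh =>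
    hr2 (hh.trans (Subgroup.card_subgroup_dvd_card _))
  obtain ⟨P⟩ : Nonempty (Sylow r h.R) := inferInstance
  have hPc : Nat.card (P : Subgroup h.R) = r := by
    rw [P.card_eq_multiplicity]
    have hf : (Nat.card h.R).factorization r = 1 := by
      refine le_antisymm ?_ (hr.factorization_pos_of_dvd Nat.card_pos.ne' hrR)
      by_contra hh
      exact hr2R (pow_two r ▸ (hr.pow_dvd_iff_le_factorization Nat.card_pos.ne').2 (by omega))
    rw [hf, pow_one]
  have hone : Nat.card (Sylow r h.R) = 1 := by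
    have hmod : Nat.card (Sylow r h.R) % r = 1 := by
      have := card_sylow_modEq_one r h.R
      rwa [Nat.ModEq, Nat.one_mod_eq_one.2 hr.one_lt.ne'] at this
    refine hsyl _ (Nat.mem_divisors.2 ⟨?_, ?_⟩) hmod
    · have h1 : Nat.card (Sylow r h.R) * r ∣ Nat.card h.R := by
        rw [← (P : Subgroup h.R).index_mul_card, hPc]
        exact mul_dvd_mul_right P.card_dvd_index _
      have h2 : Nat.card h.R * Nat.card h.T ∣ Nat.card G := by
        rw [← h.card_mul, mul_comm]
        exact mul_dvd_mul_right h.dvd_T _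
      have h3 : Nat.card (Sylow r h.R) * r * Nat.card h.T ∣ Nat.card G :=
        (mul_dvd_mul_right h1 _).trans h2
      refine Nat.dvd_div_of_mul_dvd ?_
      rw [mul_comm]
      refine Nat.dvd_div_of_mul_dvd ?_
      rw [mul_comm]
      exact h3
    · have h2 : Nat.card h.T * r ∣ Nat.card G :=
        Nat.Coprime.mul_dvd_of_dvd_of_dvd ((hr.coprime_iff_not_dvd.2 hrT).symm)
          (h.dvd_T.trans h.R.index_dvd_card) hrG
      rw [Nat.div_div_eq_div_mul]
      exact (Nat.div_pos (Nat.le_of_dvd Nat.card_pos h2) (Nat.mul_pos Nat.card_pos hr.pos)).ne'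
  haveI : Subsingleton (Sylow r h.R) := (Nat.card_eq_one_iff_unique.1 hone).1
  haveI hPn : (P : Subgroup h.R).Normal := P.normal_of_subsingleton
  haveI := P.characteristic_of_normal hPn
  exact not_mem_of_normal_prime hr ((P : Subgroup h.R).map h.R.subtype)
    (by rw [Subgroup.card_map_of_injective (Subgroup.subtype_injective _), hPc]) hr2

/-- The arithmetic form. -/
theorem Head.not_mem_of_okExp (h : Head G) {r : ℕ} (hr : r.Prime)
    (hr2 : ¬ r * r ∣ Nat.card G) (hrG : r ∣ Nat.card G) (hrT : ¬ r ∣ Nat.card h.T)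
    (ht : Nat.card h.T < 2 ^ 13) (hok : okExp (Nat.card h.T) r 1 = true)
    (hsyl : ∀ d ∈ Nat.divisors (Nat.card G / Nat.card h.T / r), d % r = 1 → d = 1) :
    r ∉ degreePrimes G := by
  haveI := Fact.mk hr
  exact h.not_mem_of_no_action hr hr2 hrG hrT (fun x hx => centralizes_of_okExp hx h.T hrT ht hok) hsyl

/-- No element of order seven acts on a simple group of order 360. -/
theorem centralizes_three_sixty {x : G} (hx : orderOf x = 7) (T : Subgroup G) [T.Normal]
    [IsSimpleGroup T] (hT : Nat.card T = 360) : ∀ g ∈ T, x * g = g * x := by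
  classical
  haveI : Fact (Nat.Prime 7) := ⟨by norm_num⟩
  haveI : Fact (Nat.Prime 5) := ⟨by norm_num⟩
  haveI : Fact (Nat.Prime 3) := ⟨by norm_num⟩
  set F : Subgroup T := (Subgroup.centralizer ({x} : Set G)).subgroupOf T with hF
  suffices h : F = ⊤ by
    intro g hg
    have := h ▸ Subgroup.mem_top (⟨g, hg⟩ : T)
    exact (Subgroup.mem_centralizer_singleton_iff.1 this).symm
  by_contra hne
  have hnc : ¬ IsMulCommutative T := fun hc => by
    haveI := hc
    letI : CommGroup T :=
      { (inferInstance : Group T) with mul_comm := fun a b => IsMulCommutative.is_comm.comm a b }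
    have hp : (Nat.card T).Prime := IsSimpleGroup.prime_card (α := T)
    rw [hT] at hp
    norm_num at hp
  have h7 : ¬ 7 ∣ Nat.card T := by rw [hT]; norm_num
  have hpart : ∀ q : ℕ, ∀ (_ : Fact q.Prime), q ≠ 7 →
      (∀ i, 1 ≤ i → i ≤ (Nat.card T).factorization q → ¬ 7 ∣ q ^ i - 1) →
      q ^ (Nat.card T).factorization q ∣ Nat.card F := by
    intro q hq hq7 hno
    obtain ⟨P, hPT, hinv, hPc⟩ := exists_invariant_sylow (q := q) hx T h7
    have hcen : ∀ g ∈ P, x * g = g * x := by
      by_contra hnc'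
      obtain ⟨c, hc, hd, -⟩ := exists_exponent (Ne.symm hq7) hx P hinv hPc hnc'
      exact hno _ (by omega) (Nat.sub_le _ _) hd
    rw [← hPc, ← Nat.card_congr (Subgroup.subgroupOfEquivOfLe hPT).toEquiv]
    exact Subgroup.card_dvd_of_le fun g hg =>
      Subgroup.mem_centralizer_singleton_iff.2 (hcen g hg).symm
  have h9 : 9 ∣ Nat.card F := by
    have h := hpart 3 inferInstance (by norm_num)
    have hf : (Nat.card T).factorization 3 = 2 := by
      rw [hT, show 360 = 3 ^ 2 * 40 by norm_num, Nat.factorization_mul (by norm_num) (by norm_num),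
        Nat.prime_three.factorization_pow]
      simp [Nat.factorization_eq_zero_of_not_dvd (show ¬ 3 ∣ 40 by norm_num)]
    rw [hf] at h
    exact h fun i h1 h2 => by interval_cases i <;> norm_num
  have h5 : 5 ∣ Nat.card F := by
    have h := hpart 5 inferInstance (by norm_num)
    have hf : (Nat.card T).factorization 5 = 1 := by
      rw [hT, show 360 = 5 ^ 1 * 72 by norm_num, Nat.factorization_mul (by norm_num) (by norm_num),
        (Fact.out : Nat.Prime 5).factorization_pow]
      simp [Nat.factorization_eq_zero_of_not_dvd (show ¬ 5 ∣ 72 by norm_num)]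
    rw [hf, pow_one] at h
    exact h fun i h1 h2 => by interval_cases i; norm_num
  have h45 : 45 ∣ Nat.card F := Nat.Coprime.mul_dvd_of_dvd_of_dvd (by norm_num) h9 h5
  have hm := F.card_mul_index
  rw [hT] at hm
  have hfact := CfsgLib.Perm.PrimeBlock.index_dvd_factorial_twice hnc hne
  rw [hT] at hfact
  obtain ⟨k, hk⟩ := h45
  have hidx : F.index ∣ 8 := ⟨k, by
    rw [hk] at hm
    have : k * F.index = 8 := by nlinarith
    linarith⟩
  have hi8 : F.index = 8 := by
    have key : ∀ i ∈ Nat.divisors 8, 2 * 360 ∣ i.factorial → i = 8 := by decide +kernel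
    exact key _ (Nat.mem_divisors.2 ⟨hidx, by norm_num⟩) hfact
  have hFc : Nat.card F = 45 := by rw [hi8] at hm; omega
  obtain ⟨P⟩ : Nonempty (Sylow 5 F) := inferInstance
  have hP5 : Nat.card (P : Subgroup F) = 5 := by
    rw [P.card_eq_multiplicity, hFc, show 45 = 5 ^ 1 * 9 by norm_num,
      Nat.factorization_mul (by norm_num) (by norm_num), (Fact.out : Nat.Prime 5).factorization_pow]
    simp [Nat.factorization_eq_zero_of_not_dvd (show ¬ 5 ∣ 9 by norm_num)]
  have hP1 : Nat.card (Sylow 5 F) = 1 := by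
    have hd : Nat.card (Sylow 5 F) ∣ 9 := by
      have e := (P : Subgroup F).card_mul_index
      rw [hP5, hFc] at e
      rw [show 9 = (P : Subgroup F).index by omega]
      exact P.card_dvd_index
    have hmod := card_sylow_modEq_one 5 F
    have key : ∀ d ∈ Nat.divisors 9, d % 5 = 1 % 5 → d = 1 := by decide +kernel
    exact key _ (Nat.mem_divisors.2 ⟨hd, by norm_num⟩) hmod
  haveI : Subsingleton (Sylow 5 F) := (Nat.card_eq_one_iff_unique.1 hP1).1
  haveI hPn : (P : Subgroup F).Normal := P.normal_of_subsingleton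
  set Q : Subgroup T := (P : Subgroup F).map F.subtype with hQ
  have hQc : Nat.card Q = 5 := by
    rw [hQ, Subgroup.card_map_of_injective F.subtype_injective, hP5]
  obtain ⟨Q', hQ'⟩ := (IsPGroup.of_card (p := 5) (n := 1) (by rw [hQc]; norm_num)).exists_le_sylow
  have hQ'c : Nat.card (Q' : Subgroup T) = 5 := by
    rw [Q'.card_eq_multiplicity, hT, show 360 = 5 ^ 1 * 72 by norm_num,
      Nat.factorization_mul (by norm_num) (by norm_num), (Fact.out : Nat.Prime 5).factorization_pow]
    simp [Nat.factorization_eq_zero_of_not_dvd (show ¬ 5 ∣ 72 by norm_num)]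
  have hQQ : Q = (Q' : Subgroup T) := Subgroup.eq_of_le_of_card_ge hQ' (by rw [hQc, hQ'c])
  have hFN : F ≤ Subgroup.normalizer ((Q' : Subgroup T) : Set T) := by
    rw [← hQQ, hQ]
    intro f hf
    rw [Subgroup.mem_normalizer_iff]
    intro g
    have hconj : ∀ f : F, ∀ g ∈ (P : Subgroup F).map F.subtype,
        (f : T) * g * (f : T)⁻¹ ∈ (P : Subgroup F).map F.subtype := by
      rintro f _ ⟨p, hp, rfl⟩
      exact ⟨f * p * f⁻¹, hPn.conj_mem p hp f, rfl⟩
    refine ⟨hconj ⟨f, hf⟩ g, fun h => ?_⟩
    have h2 := hconj ⟨f⁻¹, inv_mem hf⟩ _ h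
    simpa [mul_assoc] using h2
  have hn5 : Nat.card (Sylow 5 T) = 1 := by
    have hd : Nat.card (Sylow 5 T) ∣ 8 := by
      rw [Q'.card_eq_index_normalizer, ← hi8]
      exact Subgroup.index_dvd_of_le hFN
    have hmod := card_sylow_modEq_one 5 T
    have key : ∀ d ∈ Nat.divisors 8, d % 5 = 1 % 5 → d = 1 := by decide +kernel
    exact key _ (Nat.mem_divisors.2 ⟨hd, by norm_num⟩) hmod
  haveI : Subsingleton (Sylow 5 T) := (Nat.card_eq_one_iff_unique.1 hn5).1
  haveI hQn : (Q' : Subgroup T).Normal := Q'.normal_of_subsingleton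
  rcases hQn.eq_bot_or_eq_top with e | e
  · rw [e, Subgroup.card_bot] at hQ'c; omega
  · rw [e, Subgroup.card_top, hT] at hQ'c; omega

end CfsgLib.Char.SmallGraph
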