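import Cfsg.Agent.Lib.Char.SmallGraph.Orders
import Cfsg.Agent.Lib.Coprime.Fitting
import Cfsg.Agent.Lib.Coprime.Component
import Cfsg.Agent.Lib.Coprime.Solvable

/-!
# Solvable groups with a degree prime dividing the order once
-/

set_option autoImplicit false
set_option linter.all false

open Cfsg

namespace CfsgLib.Char.SmallGraph

universe u

variable {G : Type u} [Group G] [Finite G]

/-- In a solvable group an element of order `r`, for `r` a degree prime exactly dividing the order,
acts non-trivially on some `O_q`, with `q ≠ r`; the exceptional case removes `q` from the degree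
primes. -/
theorem solvable_exception [Group.IsSolvable G] {r e : ℕ} (hr : r.Prime) (hrG : r ∣ Nat.card G)
    (hr2 : ¬ r * r ∣ Nat.card G) (hlt : Nat.card G < 2 ^ 13) (hrv : r ∈ degreePrimes G)
    (hok : okExp (Nat.card G) r e = true) :
    ∃ q a, q.Prime ∧ 1 ≤ a ∧ q ^ a = e ∧ (¬ q ^ (a + 1) ∣ Nat.card G → q ∉ degreePrimes G) := by
  classical
  haveI := Fact.mk hr
  obtain ⟨x, hx⟩ := exists_prime_orderOf_dvd_card' r hrG
  have hcore : pCore r G = ⊥ := by
    by_contra hne
    haveI : (pCore r G).Normal := CfsgLib.Coprime.pCore_normal' r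
    obtain ⟨k, hk⟩ := IsPGroup.iff_card.1 (CfsgLib.Coprime.pCore_isPGroup r (G := G))
    have hd : Nat.card (pCore r G) ∣ Nat.card G := Subgroup.card_subgroup_dvd_card _
    have h1 : 1 < Nat.card (pCore r G) := Subgroup.one_lt_card_iff_ne_bot _ |>.2 hne
    rw [hk] at hd h1
    have hk1 : k = 1 := by
      rcases (show k = 0 ∨ k = 1 ∨ 2 ≤ k by omega) with h | h | h
      · rw [h] at h1; simp at h1
      · exact h
      · exact absurd ((pow_two r ▸ pow_dvd_pow r h).trans hd) hr2
    exact not_mem_of_normal_prime hr (pCore r G) (by rw [hk, hk1, pow_one]) hr2 hrv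
  obtain ⟨p, hp⟩ : ∃ p : Nat.Primes, ¬ ∀ g ∈ pCore (p : ℕ) G, x * g = g * x := by
    by_contra hall
    push Not at hall
    have hcent : x ∈ Subgroup.centralizer (fittingSubgroup G : Set G) := by
      have hle : fittingSubgroup G ≤ Subgroup.centralizer ({x} : Set G) := by
        rw [CfsgLib.Coprime.fitting_eq_iSup_pCore]
        exact iSup_le fun p g hg => Subgroup.mem_centralizer_singleton_iff.2 (hall p g hg).symm
      exact Subgroup.mem_centralizer_iff.2 fun g hg =>
        Subgroup.mem_centralizer_singleton_iff.1 (hle hg)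
    have hxF := CfsgLib.Coprime.centralizer_fitting_le hcent
    haveI := CfsgLib.Coprime.fitting_isNilpotent (G := G)
    haveI : (fittingSubgroup G).Normal := CfsgLib.Coprime.fitting_normal
    obtain ⟨P⟩ : Nonempty (Sylow r (fittingSubgroup G)) := inferInstance
    haveI hPn : (P : Subgroup (fittingSubgroup G)).Normal := inferInstance
    haveI := P.characteristic_of_normal hPn
    have hle : (P : Subgroup (fittingSubgroup G)).map (fittingSubgroup G).subtype ≤ pCore r G :=
      le_sSup ⟨inferInstance, (P.isPGroup'.map _)⟩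
    have hxP : (⟨x, hxF⟩ : fittingSubgroup G) ∈ (P : Subgroup (fittingSubgroup G)) := by
      haveI : Unique (Sylow r (fittingSubgroup G)) := P.unique_of_normal hPn
      obtain ⟨Q, hQ⟩ := (IsPGroup.of_card (p := r) (n := 1)
        (G := Subgroup.zpowers (⟨x, hxF⟩ : fittingSubgroup G))
        (by rw [Nat.card_zpowers, Subgroup.orderOf_mk, hx, pow_one])).exists_le_sylow
      obtain rfl := Subsingleton.elim Q P
      exact hQ (Subgroup.mem_zpowers _)
    have hxbot := hle ⟨_, hxP, rfl⟩
    rw [hcore, Subgroup.mem_bot] at hxbot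
    have hx1 : x = 1 := hxbot
    rw [hx1, orderOf_one] at hx
    exact hr.one_lt.ne hx
  haveI : Fact (p : ℕ).Prime := ⟨p.2⟩
  haveI hN : (pCore (p : ℕ) G).Normal := CfsgLib.Coprime.pCore_normal' _
  obtain ⟨a, ha⟩ := IsPGroup.iff_card.1 (CfsgLib.Coprime.pCore_isPGroup (p : ℕ) (G := G))
  have hne : r ≠ (p : ℕ) := by
    rintro h
    rw [← h, hcore] at hp
    exact hp fun g hg => by rw [Subgroup.mem_bot.1 hg]; simp
  have hnorm : ∀ g ∈ pCore (p : ℕ) G, x * g * x⁻¹ ∈ pCore (p : ℕ) G := fun g hg => hN.conj_mem g hg x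
  have hdvd : ∀ i ≤ a, (p : ℕ) ^ i ∣ Nat.card G := fun i hi =>
    (pow_dvd_pow _ hi).trans (ha ▸ Subgroup.card_subgroup_dvd_card _)
  obtain ⟨c, hc, hd, -⟩ := exists_exponent hne hx _ hnorm ha hp
  have he := eq_of_okExp hok Nat.card_pos hlt p.2 (i := a - c) (by omega) (hdvd _ (Nat.sub_le _ _)) hd
  refine ⟨(p : ℕ), a - c, p.2, by omega, he, fun hmax => ?_⟩
  have hc0 : c = 0 := by
    by_contra h
    exact hmax (hdvd _ (by omega))
  subst hc0
  rw [Nat.sub_zero] at hmax he
  have hcomm := comm_of_exception hne hx _ hnorm ha (fun i hi hia hdi => ?_) hp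
  · refine not_mem_of_normal_abelian (pCore (p : ℕ) G) hcomm fun h => hmax ?_
    rw [← (pCore (p : ℕ) G).card_mul_index, ha, pow_succ]
    exact mul_dvd_mul_left _ h
  · have := eq_of_okExp hok Nat.card_pos hlt p.2 hi (hdvd _ hia.le) hdi
    rw [← he] at this
    exact absurd (Nat.pow_right_injective p.2.two_le this) hia.ne

end CfsgLib.Char.SmallGraph
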